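import Groth.Agent.ExtPowSt.Exists
import Groth.Agent.ExtFilt.Stalkwise
import Groth.Agent.ExtFilt.Sheaf
import Groth.Agent.DeRham.ExtBaseChange
import Groth.Agent.PullStalk.Basic
import Groth.Agent.DualAbs.DetSeq
import Groth.Agent.Omega.ProdDiff
import Groth.Agent.Omega.LocalStructure
import Groth.Agent.Omega.DiagUniv

/-!
# Exterior powers of quasi-coherent modules commute with pullback
-/

set_option autoImplicit false
set_option linter.style.haveILetI false

universe u

open CategoryTheory CategoryTheory.Limits AlgebraicGeometry TopologicalSpace Opposite TensorProduct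

noncomputable section

namespace Groth.Agent.Unram24.ExtPowPull

open Groth.Agent.PullStalk.Sky Groth.Agent.PullStalk.Exact Groth.Agent.PullStalk.Basic
  Groth.Agent.Omega.Stalks Groth.Agent.ExtPowSt Groth.Agent.ExtFilt.Stalkwise
  Groth.Agent.ExtFilt.Sheaf Groth.Agent.QCoh Groth.Agent.Props.SubMod Groth.Agent.Props.SubSheaf Groth.Agent.KFlat.StalkTensor
open Groth.Agent.Omega.ProdDiff (stalkLin_id)

/-- An exterior power may be replaced by an isomorphic module. -/
theorem isExtPow_of_iso {X : Scheme.{u}} {i : ℕ} {E L L' : X.Modules} (e : L ≅ L')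
    (h : ExtPow.IsExtPow i E L) : ExtPow.IsExtPow i E L' := by
  obtain ⟨φ, hφ⟩ := h
  let ε : ∀ U : X.affineOpens, (L'.val.obj (op U.1)) ≃ₗ[Γ(X, U.1)] (L.val.obj (op U.1)) := fun U =>
    { toFun := fun m => e.inv.app U.1 m
      invFun := fun m => e.hom.app U.1 m
      left_inv := fun m => by
        show (e.inv.app U.1 ≫ e.hom.app U.1) m = m
        rw [← Scheme.Modules.Hom.comp_app, e.inv_hom_id]
        rfl
      right_inv := fun m => by
        show (e.hom.app U.1 ≫ e.inv.app U.1) m = m
        rw [← Scheme.Modules.Hom.comp_app, e.hom_inv_id]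
        rfl
      map_add' := fun a b => map_add (e.inv.app U.1).hom a b
      map_smul' := fun r m => Scheme.Modules.Hom.app_smul _ _ _ }
  refine ⟨fun U => (ε U).trans (φ U), fun U V h v => ?_⟩
  show L'.val.map (homOfLE h).op (e.hom.app U.1 ((φ U).symm _)) = e.hom.app V.1 ((φ V).symm _)
  rw [← hφ U V h v]
  exact (NatTrans.naturality_apply e.hom.mapPresheaf (homOfLE h).op _).symm

/-- The stalk of the pullback of an exterior power is the exterior power of the stalk of the
pullback. -/
theorem exists_stalk {X P : Scheme.{u}} (g : X ⟶ P) {n : ℕ} {E L : P.Modules} [E.IsQuasicoherent] (Φ : Sys n E L) (y : X) :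
    ∃ θ : (⋀[X.presheaf.stalk y]^n (((Scheme.Modules.pullback g).obj E).presheaf.stalk y))
        →ₗ[X.presheaf.stalk y] ((Scheme.Modules.pullback g).obj L).presheaf.stalk y,
      Function.Bijective θ ∧ ∀ e : Fin n → E.presheaf.stalk (g y),
        θ (exteriorPower.ιMulti _ n (fun k => unitStalkHom g E y (e k))) =
          unitStalkHom g L y ((stalkEquiv Φ (g y)).symm (exteriorPower.ιMulti _ n e)) := by
  let R := P.presheaf.stalk (g y)
  let S := X.presheaf.stalk y
  letI : Algebra R S := (g.stalkMap y).hom.toAlgebra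
  letI := moduleOver g E y
  letI := moduleOver g L y
  haveI : IsScalarTower R S (((Scheme.Modules.pullback g).obj E).presheaf.stalk y) :=
    IsScalarTower.of_algebraMap_smul fun _ _ => rfl
  haveI : IsScalarTower R S (((Scheme.Modules.pullback g).obj L).presheaf.stalk y) :=
    IsScalarTower.of_algebraMap_smul fun _ _ => rfl
  let eE := (isBaseChange_unitStalk g E y).equiv
  let eL := (isBaseChange_unitStalk g L y).equiv
  let a := LinearEquiv.baseChange R S _ _ (stalkEquiv Φ (g y)).symm
  let c := DeRham.ExtBaseChange.equiv R S (E.presheaf.stalk (g y)) n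
  let m := exteriorPower.map n eE.symm.toLinearMap
  have hm : Function.Bijective m := by
    refine Function.bijective_iff_has_inverse.mpr ⟨exteriorPower.map n eE.toLinearMap, fun z => ?_, fun z => ?_⟩
    · rw [← LinearMap.comp_apply, ← exteriorPower.map_comp, LinearEquiv.comp_coe, LinearEquiv.symm_trans_self,
        LinearEquiv.refl_toLinearMap, exteriorPower.map_id, LinearMap.id_apply]
    · rw [← LinearMap.comp_apply, ← exteriorPower.map_comp, LinearEquiv.comp_coe, LinearEquiv.self_trans_symm,
        LinearEquiv.refl_toLinearMap, exteriorPower.map_id, LinearMap.id_apply]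
  refine ⟨((c.symm.trans a).trans eL).toLinearMap ∘ₗ m,
    ((c.symm.trans a).trans eL).bijective.comp hm, fun e => ?_⟩
  have he : ∀ t, eE.symm (unitStalkHom g E y t) = (1 : S) ⊗ₜ[R] t := fun t => by
    rw [LinearEquiv.symm_apply_eq]
    exact (((isBaseChange_unitStalk g E y).equiv_tmul 1 t).trans (one_smul S (unitStalkHom g E y t))).symm
  rw [LinearMap.comp_apply, exteriorPower.map_apply_ιMulti, LinearEquiv.coe_coe, LinearEquiv.trans_apply,
    LinearEquiv.trans_apply]
  rw [show c.symm (exteriorPower.ιMulti S n (eE.symm.toLinearMap ∘ fun k => unitStalkHom g E y (e k))) =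
      (1 : S) ⊗ₜ[R] exteriorPower.ιMulti R n e from by
    rw [LinearEquiv.symm_apply_eq]
    refine Eq.trans ?_ (DeRham.ExtBaseChange.cmp_tmul_ιMulti R S _ n 1 e).symm
    rw [one_smul]
    exact congrArg _ (funext fun k => he (e k))]
  exact ((isBaseChange_unitStalk g L y).equiv_tmul 1 _).trans (one_smul S (unitStalkHom g L y _))

variable {X P : Scheme.{u}} (g : X ⟶ P) {n : ℕ} {E' : X.Modules} {E L : P.Modules}

/-- `g^*L` is an exterior power of `E'` when `L` is one of `E` and `E' ≅ g^*E`. -/
theorem isExtPow_pullback [E'.IsQuasicoherent] [E.IsQuasicoherent]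
    (e : (Scheme.Modules.pullback g).obj E ≅ E') (hL : ExtPow.IsExtPow n E L) :
    ExtPow.IsExtPow n E' ((Scheme.Modules.pullback g).obj L) := by
  classical
  obtain ⟨L', hL'⟩ := Exists.exists_isExtPow n E'
  refine isExtPow_of_iso (Nonempty.some ?_) hL'
  let Φ' : Sys n E' L' := ⟨hL'.choose, hL'.choose_spec⟩
  let Φ : Sys n E L := ⟨hL.choose, hL.choose_spec⟩
  choose θ hθb hθ using fun y => exists_stalk g Φ y
  have hbij : ∀ y, Function.Bijective (stalkLin e.inv y) ∧ Function.Bijective (stalkLin e.hom y) := fun y => by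
    constructor
    · refine Function.bijective_iff_has_inverse.mpr ⟨stalkLin e.hom y, fun t => ?_, fun t => ?_⟩
      · rw [← stalkLin_comp, e.inv_hom_id, stalkLin_id]
      · rw [← stalkLin_comp, e.hom_inv_id, stalkLin_id]
    · refine Function.bijective_iff_has_inverse.mpr ⟨stalkLin e.inv y, fun t => ?_, fun t => ?_⟩
      · rw [← stalkLin_comp, e.hom_inv_id, stalkLin_id]
      · rw [← stalkLin_comp, e.inv_hom_id, stalkLin_id]
  let eE : ∀ y : X, E'.presheaf.stalk y ≃ₗ[X.presheaf.stalk y]
      ((Scheme.Modules.pullback g).obj E).presheaf.stalk y := fun y => LinearEquiv.ofBijective _ (hbij y).1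
  let φ := fun y : X => θ y ∘ₗ exteriorPower.map n (eE y).toLinearMap ∘ₗ (stalkEquiv Φ' y).toLinearMap
  have hgen : ∀ x (w : Fin n → E.presheaf.stalk (g x)), Loc φ x ((stalkEquiv Φ' x).symm
      (exteriorPower.ιMulti _ n fun k => stalkLin e.hom x (unitStalkHom g E x (w k)))) := by
    intro x w
    obtain ⟨U, hxU, -, s, hs⟩ := exists_lifts E (g x) w ⊤ trivial
    obtain ⟨T, hT, hxT, hTU⟩ := exists_isAffineOpen_mem_and_subset (X := X) (x := x) (U := g ⁻¹ᵁ U.1) hxU
    let us : Fin n → Γ((Scheme.Modules.pullback g).obj E, g ⁻¹ᵁ U.1) := fun k =>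
      ((Scheme.Modules.pullbackPushforwardAdjunction g).unit.app E).app U.1 (s k)
    let T' : X.affineOpens := ⟨T, hT⟩
    let v : Fin n → Γ(E', T) := fun k => e.hom.app T (res _ hTU (us k))
    have hv : ∀ y (hy : y ∈ T) k, germM E' T y hy (v k) =
        stalkLin e.hom y (unitStalkHom g E y (germM E U.1 (g y) (hTU hy) (s k))) := fun y hy k => by
      refine (stalkLin_germ e.hom T y hy (res _ hTU (us k))).symm.trans (congrArg (stalkLin e.hom y) ?_)
      exact (germM_res' _ hTU y hy _).trans (unitStalkHom_germ g E y U.1 (hTU hy) (s k)).symm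
    refine ⟨T, hxT, wsec Φ' T' v, res _ hTU
      (((Scheme.Modules.pullbackPushforwardAdjunction g).unit.app L).app U.1 (wsec Φ U s)), ?_, fun y hy => ?_⟩
    · refine (stalkEquiv Φ' x).injective ((equiv_wedge Φ' T' x hxT v).trans ?_)
      rw [LinearEquiv.apply_symm_apply]
      exact congrArg _ (funext fun k => (hv x hxT k).trans (by rw [hs k]))
    · show θ y (exteriorPower.map n (eE y).toLinearMap (stalkEquiv Φ' y _)) = _
      rw [equiv_wedge Φ' T' y hy v, exteriorPower.map_apply_ιMulti]
      refine Eq.trans ?_ ((germM_res' _ hTU y hy _).trans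
        (unitStalkHom_germ g L y U.1 (hTU hy) (wsec Φ U s)).symm).symm
      refine Eq.trans ?_ ((hθ y fun k => germM E U.1 (g y) (hTU hy) (s k)).trans (congrArg (unitStalkHom g L y)
        ((LinearEquiv.symm_apply_eq _).2 (equiv_wedge Φ U (g y) (hTU hy) s).symm)))
      refine congrArg (θ y) (congrArg _ (funext fun k => ?_))
      show stalkLin e.inv y (germM E' T y hy (v k)) = _
      rw [hv y hy k, ← stalkLin_comp, e.hom_inv_id, stalkLin_id]
  have hloc : ∀ x t, Loc φ x t := by
    intro x t
    let R := P.presheaf.stalk (g x)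
    let S := X.presheaf.stalk x
    letI : Algebra R S := (g.stalkMap x).hom.toAlgebra
    letI := moduleOver g E x
    haveI : IsScalarTower R S (((Scheme.Modules.pullback g).obj E).presheaf.stalk x) :=
      IsScalarTower.of_algebraMap_smul fun _ _ => rfl
    have hspan : Submodule.span S (Set.range fun w => stalkLin e.hom x (unitStalkHom g E x w)) = ⊤ := by
      rw [eq_top_iff]
      rintro z -
      obtain ⟨z', rfl⟩ := (hbij x).2.2 z
      induction z' using (isBaseChange_unitStalk g E x).inductionOn with
      | zero => rw [map_zero]; exact zero_mem _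
      | tmul m => exact Submodule.subset_span ⟨m, rfl⟩
      | smul s m hm => rw [map_smul]; exact Submodule.smul_mem _ _ hm
      | add a b ha hb => rw [map_add]; exact add_mem ha hb
    rw [← (stalkEquiv Φ' x).symm_apply_apply t]
    generalize stalkEquiv Φ' x t = z
    have hz : z ∈ Submodule.span S (exteriorPower.ιMulti S n '' {v | Set.range v ⊆
        Set.range fun w => stalkLin e.hom x (unitStalkHom g E x w)}) := by
      rw [exteriorPower.ιMulti_span_of_span S n _ hspan]; trivial
    induction hz using Submodule.span_induction with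
    | mem z hz =>
      obtain ⟨v, hv, rfl⟩ := hz
      choose w hw using fun k => hv ⟨k, rfl⟩
      rw [← funext hw]
      exact hgen x w
    | zero => rw [map_zero]; exact loc_zero x
    | add p q _ _ hp hq => rw [map_add]; exact loc_add hp hq
    | smul c p _ hp => rw [LinearEquiv.map_smul]; exact loc_smul c hp
  obtain ⟨h, hh⟩ := exists_hom hloc
  haveI : IsIso h := isIso_of_stalk fun y => by
    rw [show (stalkLin h y : _ → _) = φ y from funext (hh y)]
    have hmap : Function.Bijective (exteriorPower.map n (eE y).toLinearMap) := by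
      refine Function.bijective_iff_has_inverse.mpr
        ⟨exteriorPower.map n (eE y).symm.toLinearMap, fun z => ?_, fun z => ?_⟩
      · rw [← LinearMap.comp_apply, ← exteriorPower.map_comp, LinearEquiv.comp_coe, LinearEquiv.self_trans_symm,
          LinearEquiv.refl_toLinearMap, exteriorPower.map_id, LinearMap.id_apply]
      · rw [← LinearMap.comp_apply, ← exteriorPower.map_comp, LinearEquiv.comp_coe, LinearEquiv.symm_trans_self,
          LinearEquiv.refl_toLinearMap, exteriorPower.map_id, LinearMap.id_apply]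
    exact (hθb y).comp (hmap.comp (stalkEquiv Φ' y).bijective)
  exact ⟨asIso h⟩

/-- The sheaf of differentials of a quasi-separated morphism is quasi-coherent. -/
theorem isQuasicoherent_omega {X S : Scheme.{u}} (f : X ⟶ S) [QuasiSeparated f] :
    (Omega.sheaf f).IsQuasicoherent := by
  refine Groth.Agent.QCoh.isQuasicoherent_of_forall_exists _ fun x => ?_
  obtain ⟨U, hU, V, hV, hxV, -, e⟩ := Omega.Chart.exists_affine_pair f x (W := ⊤) (Set.mem_univ _)
  let := (f.appLE U V e).hom.toAlgebra
  obtain ⟨i⟩ := Omega.LocalStructure.exists_tilde_iso (Omega.DiagUniv.isUniversal_dOmega f) hU hV e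
  exact ⟨V, hV, hxV, Groth.Agent.QCoh.isQuasicoherent_of_iso i⟩

end Groth.Agent.Unram24.ExtPowPull
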