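import Groth.Agent.CBC.GeomRedH0
import Groth.Agent.FormalFun.SecFinite
import Groth.Agent.GrpdLib.SepDense
import Groth.Prelude.Def_Omega4
import Groth.Prelude.Def_ExtPow2
import Mathlib.RingTheory.Kaehler.TensorProduct
import Mathlib.RingTheory.LocalRing.Module

/-!
# Functions of a proper flat family with geometrically reduced fibres are finite and unramified
-/

set_option autoImplicit false
set_option backward.isDefEq.respectTransparency.types false
set_option linter.style.haveILetI false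

universe u

open CategoryTheory CategoryTheory.Limits AlgebraicGeometry Opposite TopologicalSpace
open scoped TensorProduct

noncomputable section

namespace Groth.Agent.Unram24.PushEtale

open Groth.Agent.CBC Groth.Agent.CBC.GeomRedH0

local notation "O" => Coh.structureModule _

attribute [local instance] Algebra.TensorProduct.rightAlgebra

/-- A finite algebra with étale base change to every residue field is formally unramified. -/
theorem formallyUnramified_of_residue {A B : Type u} [CommRing A] [CommRing B] [Algebra A B] [Module.Finite A B]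
    (h : ∀ p : PrimeSpectrum A, Algebra.FormallyUnramified p.asIdeal.ResidueField (p.asIdeal.ResidueField ⊗[A] B)) :
    Algebra.FormallyUnramified A B := by
  haveI : Module.Finite A Ω[B⁄A] := Module.Finite.trans B Ω[B⁄A]
  refine ⟨(Module.support_eq_empty_iff (R := A)).mp (Set.eq_empty_iff_forall_notMem.mpr fun p hp => ?_)⟩
  haveI := h p
  haveI : Subsingleton (p.asIdeal.ResidueField ⊗[A] Ω[B⁄A]) :=
    (KaehlerDifferential.tensorKaehlerEquivBase A p.asIdeal.ResidueField B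
      (p.asIdeal.ResidueField ⊗[A] B)).toEquiv.subsingleton
  exact not_nontrivial _ (Module.mem_support_iff_nontrivial_residueField_tensorProduct p |>.mp hp)

variable {X S : Scheme.{u}}

/-- Locally on the base, functions form a finite algebra. -/
theorem exists_finite (f : X ⟶ S) [IsProper f] [Flat f] [LocallyOfFinitePresentation f]
    [GeometricallyReduced f] {V₀ : S.Opens} {s : S} (hs₀ : s ∈ V₀) :
    ∃ U : S.Opens, IsAffineOpen U ∧ s ∈ U ∧ U ≤ V₀ ∧ (f.app U).hom.Finite ∧ ∀ ⦃X' S' : Scheme.{u}⦄ (g' : X' ⟶ X) (f' : X' ⟶ S')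
      (g : S' ⟶ S), IsPullback g' f' f g → ∀ (W : S'.Opens), IsAffineOpen W → ∀ (h : W ≤ g ⁻¹ᵁ U)
        (e : f' ⁻¹ᵁ W ≤ g' ⁻¹ᵁ (f ⁻¹ᵁ U)),
        IsPushout (f.app U) (g.appLE U W h) (g'.appLE (f ⁻¹ᵁ U) (f' ⁻¹ᵁ W) e) (f'.app W) := by
  obtain ⟨_, ⟨(V : S.Opens), hV, rfl⟩, hsV, -⟩ :=
    S.isBasis_affineOpens.exists_subset_of_mem_open (Set.mem_univ s) isOpen_univ
  let u : (f ⁻¹ᵁ V).toScheme ⟶ Spec (CommRingCat.of Γ(S, V)) := overV f hV
  have hpb : IsPullback u (f ⁻¹ᵁ V).ι hV.fromSpec f := isPullback_overV f hV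
  haveI : IsProper u := MorphismProperty.of_isPullback hpb.flip ‹IsProper f›
  haveI : Flat u := MorphismProperty.of_isPullback hpb.flip ‹Flat f›
  haveI : LocallyOfFinitePresentation u :=
    MorphismProperty.of_isPullback hpb.flip ‹LocallyOfFinitePresentation f›
  obtain ⟨A₀, X₀, u₀, q, hA₀, hu₀, hfl₀, H₀⟩ := AbSch51.ConstFun.exists_flat_model u
  haveI : IsNoetherianRing A₀ := by
    have := (Subalgebra.fg_iff_finiteType A₀).mp hA₀
    exact Algebra.FiniteType.isNoetherianRing ℤ A₀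
  haveI : LocallyOfFinitePresentation u₀ := inferInstance
  let τ := Spec.map (CommRingCat.ofHom A₀.val.toRingHom)
  let x : Spec (CommRingCat.of Γ(S, V)) := hV.primeIdealOf ⟨s, hsV⟩
  have hx : hV.fromSpec x = s := hV.fromSpec_primeIdealOf ⟨s, hsV⟩
  have hgs : GeometricallyReduced (f.fiberToSpecResidueField s) :=
    MorphismProperty.pullback_snd _ _ ‹GeometricallyReduced f›
  have hgx : GeometricallyReduced (u.fiberToSpecResidueField x) :=
    (Set.ext_iff.1 (S9735.result f hV.fromSpec u (f ⁻¹ᵁ V).ι hpb.flip) x).2 (by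
      show GeometricallyReduced (f.fiberToSpecResidueField (hV.fromSpec x))
      rw [hx]; exact hgs)
  have hg₀ : GeometricallyReduced (u₀.fiberToSpecResidueField (τ x)) :=
    (Set.ext_iff.1 (S9735.result u₀ τ u q H₀) x).1 hgx
  haveI : (Coh.structureModule X₀).IsQuasicoherent := ProjTwist.isQuasicoherent_structureModule X₀
  have hflat := IntProd70.isFlatOver_unit u₀
  obtain ⟨N₀, hN₀⟩ := exists_nhd (IntProd70.isFP_unit X₀) hflat (τ x)
  obtain ⟨N, hN, hR, -⟩ := N₀.exists_rExact_of_surjAt hflat hN₀ (surjAt_zero u₀ N₀ hN₀ hg₀)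
  let Ω : S.Opens := hV.fromSpec ''ᵁ (τ ⁻¹ᵁ N.V)
  obtain ⟨U', hU', hsU', hbc⟩ := exists_isPushout f s
  obtain ⟨_, ⟨(U : S.Opens), hU, rfl⟩, hsU₂, hUle⟩ :=
    S.isBasis_affineOpens.exists_subset_of_mem_open (show s ∈ Ω ⊓ U' ⊓ V₀ from ⟨⟨⟨x, hN, hx⟩, hsU'⟩, hs₀⟩) (Ω ⊓ U' ⊓ V₀).2
  have hUΩ' : U ≤ Ω := fun z hz => (hUle hz).1.1
  have hUV : U ≤ V := fun z hz => by
    obtain ⟨w, -, rfl⟩ := hUΩ' hz
    exact hV.range_fromSpec.le ⟨w, rfl⟩
  refine ⟨U, hU, hsU₂, fun z hz => (hUle hz).2, ?_, fun X' S' g' f' g H W hW h e => ?_⟩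
  · let ρ : U.toScheme ⟶ Spec (CommRingCat.of A₀) := (S.homOfLE hUV ≫ hV.isoSpec.hom) ≫ τ
    let rU : (f ⁻¹ᵁ U).toScheme ⟶ (f ⁻¹ᵁ V).toScheme := X.homOfLE (f.preimage_mono hUV)
    have hU₁ : IsPullback rU (f.resLE U (f ⁻¹ᵁ U) le_rfl) u (S.homOfLE hUV ≫ hV.isoSpec.hom) := by
      refine IsPullback.of_right ?_ ?_ hpb.flip
      · rw [Category.assoc, IsAffineOpen.isoSpec_hom_fromSpec, Scheme.homOfLE_ι, Scheme.homOfLE_ι,
          Scheme.Hom.resLE_eq_morphismRestrict]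
        exact (isPullback_morphismRestrict f U).flip
      · show rU ≫ overV f hV = _
        rw [overV, ← Category.assoc, ← Category.assoc, Scheme.Hom.map_resLE, Scheme.Hom.resLE_map]
    have hU₂ : IsPullback (rU ≫ q) (f.resLE U (f ⁻¹ᵁ U) le_rfl) u₀ ρ := hU₁.paste_horiz H₀
    haveI : IsAffine U.toScheme := hU
    have hUN : (⊤ : U.toScheme.Opens) ≤ ρ ⁻¹ᵁ N.V := fun z _ => by
      show τ ((S.homOfLE hUV ≫ hV.isoSpec.hom) z) ∈ N.V
      obtain ⟨w, hw, hwz⟩ := hUΩ' z.2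
      have : (S.homOfLE hUV ≫ hV.isoSpec.hom) z = w := by
        refine hV.fromSpec.isOpenEmbedding.injective (Eq.trans ?_ hwz.symm)
        have hc : (S.homOfLE hUV ≫ hV.isoSpec.hom) ≫ hV.fromSpec = U.ι := by
          rw [Category.assoc, IsAffineOpen.isoSpec_hom_fromSpec, Scheme.homOfLE_ι]
        exact congr($hc z)
      rw [this]
      exact hw
    have eU : (⊤ : (f ⁻¹ᵁ U).toScheme.Opens) ≤ (rU ≫ q) ⁻¹ᵁ (u₀ ⁻¹ᵁ N.V) := fun z _ => by
      show u₀ ((rU ≫ q) z) ∈ N.V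
      rw [← Scheme.Hom.comp_apply, hU₂.w]
      exact hUN trivial
    have p₁ := isPushout_of_rExact N hR hU₂ (isAffineOpen_top _) hUN eU
    have hfin₀ : (u₀.app N.V).hom.Finite := FormalFun.finite_app u₀ N.hV
    haveI : (RingHom.toMorphismProperty RingHom.Finite).IsStableUnderCobaseChange :=
      RingHom.isStableUnderCobaseChange_toMorphismProperty_iff.mpr RingHom.finite_isStableUnderBaseChange
    have h1 : ((f.resLE U (f ⁻¹ᵁ U) le_rfl).appTop).hom.Finite :=
      MorphismProperty.of_isPushout (P := RingHom.toMorphismProperty RingHom.Finite) p₁.flip hfin₀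
    have key : f.app U = U.topIso.inv ≫ (f.resLE U (f ⁻¹ᵁ U) le_rfl).appTop ≫ (f ⁻¹ᵁ U).topIso.hom := by
      rw [Scheme.Hom.appTop, Scheme.Hom.resLE_app_top]
      simp only [Category.assoc, Iso.inv_hom_id, Category.comp_id, Iso.inv_hom_id_assoc, Scheme.Hom.app_eq_appLE]
    rw [key, CommRingCat.hom_comp, CommRingCat.hom_comp]
    exact ((RingHom.Finite.of_surjective _ (ConcreteCategory.bijective_of_isIso (f ⁻¹ᵁ U).topIso.hom).2).comp h1).comp
      (RingHom.Finite.of_surjective _ (ConcreteCategory.bijective_of_isIso U.topIso.inv).2)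
  · have hle : U ≤ U' := fun z hz => (hUle hz).1.2
    have pU := hbc (𝟙 X) f (𝟙 S) (IsPullback.of_horiz_isIso ⟨by simp⟩) U hU (fun z hz => hle hz)
      (fun z hz => hle hz)
    refine IsPushout.of_top (h₁₁ := f.app U') (v₁₁ := (𝟙 S : S ⟶ S).appLE U' U (fun z hz => hle hz))
      (v₁₂ := (𝟙 X : X ⟶ X).appLE (f ⁻¹ᵁ U') (f ⁻¹ᵁ U) (fun z hz => hle hz)) ?_ ?_ pU
    · rw [Scheme.Hom.appLE_comp_appLE, Scheme.Hom.appLE_comp_appLE]
      simp only [Category.comp_id]
      exact hbc g' f' g H W hW (h.trans (g.preimage_mono hle)) (e.trans (g'.preimage_mono (f.preimage_mono hle)))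
    · rw [Scheme.Hom.app_eq_appLE, Scheme.Hom.app_eq_appLE, Scheme.Hom.appLE_comp_appLE, Scheme.Hom.appLE_comp_appLE]
      simp only [H.w]

/-- Locally on the base, functions form an unramified algebra. -/
theorem exists_unramified (f : X ⟶ S) [IsProper f] [Flat f] [LocallyOfFinitePresentation f]
    [GeometricallyReduced f] {V₀ : S.Opens} {s : S} (hs₀ : s ∈ V₀) :
    ∃ U : S.Opens, IsAffineOpen U ∧ s ∈ U ∧ U ≤ V₀ ∧
      letI := (f.app U).hom.toAlgebra; Algebra.FormallyUnramified Γ(S, U) Γ(X, f ⁻¹ᵁ U) := by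
  obtain ⟨U, hU, hsU, hle, hfin, hbc⟩ := exists_finite f hs₀
  refine ⟨U, hU, hsU, hle, ?_⟩
  letI := (f.app U).hom.toAlgebra
  haveI : Module.Finite Γ(S, U) Γ(X, f ⁻¹ᵁ U) := hfin
  refine formallyUnramified_of_residue fun p => ?_
  let k := p.asIdeal.ResidueField
  let g : Spec (CommRingCat.of k) ⟶ S := Spec.map (CommRingCat.ofHom (algebraMap Γ(S, U) k)) ≫ hU.fromSpec
  let f' := pullback.snd f g
  letI : (pullback f g).Over (Spec (CommRingCat.of k)) := ⟨f'⟩
  haveI : IsProper (pullback f g ↘ Spec (CommRingCat.of k)) := MorphismProperty.pullback_snd _ _ ‹IsProper f›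
  haveI : GeometricallyReduced (pullback f g ↘ Spec (CommRingCat.of k)) :=
    MorphismProperty.pullback_snd _ _ ‹GeometricallyReduced f›
  letI := VarBC.H0.topAlgebra k (pullback f g)
  haveI := GeomRedEtale.etale_top k (pullback f g)
  have h : (⊤ : (Spec (CommRingCat.of k)).Opens) ≤ g ⁻¹ᵁ U := fun z _ => by
    show g z ∈ U
    exact hU.range_fromSpec.le ⟨_, (Scheme.Hom.comp_apply _ _ z).symm⟩
  have e : f' ⁻¹ᵁ ⊤ ≤ (pullback.fst f g) ⁻¹ᵁ (f ⁻¹ᵁ U) := fun z _ => by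
    show f (pullback.fst f g z) ∈ U
    rw [← Scheme.Hom.comp_apply, pullback.condition]
    exact h (trivial : f' z ∈ (⊤ : (Spec (CommRingCat.of k)).Opens))
  have p₀ := hbc (pullback.fst f g) f' g (IsPullback.of_hasPullback f g) ⊤ (isAffineOpen_top _) h e
  have hg : g.appLE U ⊤ h ≫ (Scheme.ΓSpecIso (CommRingCat.of k)).hom = CommRingCat.ofHom (algebraMap Γ(S, U) k) := by
    apply Spec.map_injective
    rw [← cancel_mono hU.fromSpec, Spec.map_comp, Category.assoc,
      hU.SpecMap_appLE_fromSpec g (isAffineOpen_top _) h, IsAffineOpen.fromSpec_top, Scheme.isoSpec_Spec_inv,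
      ← Category.assoc, ← Spec.map_comp, Iso.inv_hom_id, Spec.map_id, Category.id_comp]
  have p₁ : IsPushout (f.app U) (CommRingCat.ofHom (algebraMap Γ(S, U) k))
      ((pullback.fst f g).appLE (f ⁻¹ᵁ U) ⊤ e) (CommRingCat.ofHom (algebraMap k Γ(pullback f g, ⊤))) := by
    refine p₀.of_iso (Iso.refl _) (Iso.refl _) (Scheme.ΓSpecIso (CommRingCat.of k)) (Iso.refl _) ?_ ?_ ?_ ?_
    · simp
    · simpa using hg
    · simp
    · show f'.app ⊤ ≫ 𝟙 _ = _
      rw [Category.comp_id]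
      show f'.appTop = (Scheme.ΓSpecIso (CommRingCat.of k)).hom ≫ (Scheme.ΓSpecIso (CommRingCat.of k)).inv ≫ f'.appTop
      rw [Iso.hom_inv_id_assoc]
  have p₂ : IsPushout (f.app U) (CommRingCat.ofHom (algebraMap Γ(S, U) k))
      (CommRingCat.ofHom (Algebra.TensorProduct.includeRight : Γ(X, f ⁻¹ᵁ U) →ₐ[Γ(S, U)] k ⊗[Γ(S, U)] Γ(X, f ⁻¹ᵁ U)).toRingHom)
      (CommRingCat.ofHom (algebraMap k (k ⊗[Γ(S, U)] Γ(X, f ⁻¹ᵁ U)))) :=
    (CommRingCat.isPushout_tensorProduct Γ(S, U) k Γ(X, f ⁻¹ᵁ U)).flip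
  let ψ := p₁.isoIsPushout _ _ p₂
  let φ : Γ(pullback f g, ⊤) ≃ₐ[k] (k ⊗[Γ(S, U)] Γ(X, f ⁻¹ᵁ U)) :=
    AlgEquiv.ofRingEquiv (f := ψ.commRingCatIsoToRingEquiv) fun c => congr($(p₁.inr_isoIsPushout_hom _ _ p₂) c)
  exact Algebra.FormallyUnramified.of_equiv φ

/-- The derivation of a proper flat family with geometrically reduced fibres kills functions from the base. -/
theorem dOmega_app_eq_zero (f : X ⟶ S) [IsProper f] [Flat f] [LocallyOfFinitePresentation f]
    [GeometricallyReduced f] (V : S.Opens) (s : Γ(X, f ⁻¹ᵁ V)) :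
    (OmegaSh.dOmega f).app (f ⁻¹ᵁ V) s = 0 := by
  choose U hU hzU hUV hunr using fun z : V => exists_unramified f z.2
  let F : TopCat.Sheaf Ab.{u} X := ⟨(Omega.sheaf f).presheaf, (Omega.sheaf f).isSheaf⟩
  refine F.eq_of_locally_eq' (fun z : V => f ⁻¹ᵁ U z) (f ⁻¹ᵁ V)
    (fun z => homOfLE (f.preimage_mono (hUV z))) (fun x hx => TopologicalSpace.Opens.mem_iSup.mpr
      ⟨⟨f x, hx⟩, hzU _⟩) _ _ fun z => ?_
  rw [map_zero]
  refine ((OmegaSh.dOmega f).d_map (homOfLE (f.preimage_mono (hUV z))).op s).symm.trans ?_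
  generalize (X.presheaf.map (homOfLE (f.preimage_mono (hUV z))).op) s = b
  letI := (f.app (U z)).hom.toAlgebra
  haveI := hunr z
  let M : Type u := (Omega.sheaf f).val.obj (op (f ⁻¹ᵁ U z))
  letI : Module Γ(X, f ⁻¹ᵁ U z) M := ExtPow.secModule _ _
  letI : Module Γ(S, U z) M := Module.compHom M (f.app (U z)).hom
  haveI : IsScalarTower Γ(S, U z) Γ(X, f ⁻¹ᵁ U z) M := IsScalarTower.of_algebraMap_smul fun _ _ => rfl
  let δ : Γ(X, f ⁻¹ᵁ U z) →+ M := (OmegaSh.dOmega f).d (X := op (f ⁻¹ᵁ U z))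
  have hmul : ∀ a c, δ (a * c) = a • δ c + c • δ a := fun a c => (OmegaSh.dOmega f).d_mul _ _
  have happ : ∀ r, δ (f.app (U z) r) = 0 := fun r => (OmegaSh.dOmega f).d_app r
  let D : Derivation Γ(S, U z) Γ(X, f ⁻¹ᵁ U z) M := Derivation.mk'
    { toFun := δ
      map_add' := map_add δ
      map_smul' := fun r c => by
        show δ (f.app (U z) r * c) = f.app (U z) r • δ c
        rw [hmul, happ, smul_zero, add_zero] } hmul
  have h := (Derivation.liftKaehlerDifferential_comp_D D b).symm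
  rw [Subsingleton.elim (KaehlerDifferential.D Γ(S, U z) Γ(X, f ⁻¹ᵁ U z) b) 0, map_zero] at h
  exact h

end Groth.Agent.Unram24.PushEtale
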