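import Groth.Agent.Omega.Stalks
import Groth.Agent.Omega.LocDer
import Groth.Agent.LFFrame.Basic
import Groth.Agent.Omega.ProjBundle.Frame
import Mathlib.RingTheory.Etale.Kaehler
import Mathlib.RingTheory.Kaehler.Polynomial

/-!
# A frame of the differentials on a chart with étale coordinates
-/

set_option autoImplicit false
set_option backward.isDefEq.respectTransparency false
set_option backward.isDefEq.respectTransparency.types false

universe u

open CategoryTheory CategoryTheory.Limits AlgebraicGeometry TopologicalSpace Opposite MvPolynomial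
open OmegaSh Groth.Agent.LFFrame Groth.Agent.PullStalk.Exact Groth.Agent.PullStalk.Sky
open Groth.Agent.Omega.Stalks
open Groth.Agent.Omega.ProjBundle (stalkComb_single)

noncomputable section

namespace Groth.Agent.Unram24.EtaleFrame

open Groth.Agent.Omega

variable {X Y : Scheme.{u}} {f : X ⟶ Y} {Ω : X.Modules} {d : Der f Ω}

theorem isFrame_d_of_etale (hd : IsUniversal d) {U : Y.Opens} (hU : IsAffineOpen U) {V : X.Opens} (hV : IsAffineOpen V)
    (e : V ≤ f ⁻¹ᵁ U) {m : ℕ} (φ : MvPolynomial (Fin m) Γ(Y, U) →+* Γ(X, V))
    (hC : ∀ a, φ (MvPolynomial.C a) = f.appLE U V e a) (hφ : φ.FormallyEtale) :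
    IsFrame Ω V (fun i => d.app V (φ (MvPolynomial.X i))) := by
  refine isFrame_of_stalkComb_bijective fun z hz => ?_
  obtain ⟨δ, hmul, hzero, hδ, hu⟩ := exists_stalk_universal hd z
  let C := X.presheaf.stalk z
  let γ : Γ(X, V) →+* C := (X.presheaf.germ V z hz).hom
  let g : MvPolynomial (Fin m) Γ(Y, U) →+* C := γ.comp φ
  let A : Type u := Γ(Y, U)
  let B : Type u := Γ(X, V)
  letI : Algebra A B := (f.appLE U V e).hom.toAlgebra
  letI : Algebra (MvPolynomial (Fin m) A) B := φ.toAlgebra
  haveI : IsScalarTower A (MvPolynomial (Fin m) A) B := IsScalarTower.of_algebraMap_eq fun a => (hC a).symm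
  haveI : Algebra.FormallyEtale (MvPolynomial (Fin m) A) B := hφ
  let bas : Module.Basis (Fin m) B Ω[B⁄A] := ((KaehlerDifferential.mvPolynomialBasis A (Fin m)).baseChange B).map
    (KaehlerDifferential.tensorKaehlerEquivOfFormallyEtale A (MvPolynomial (Fin m) A) B)
  have hbas : ∀ i, bas i = KaehlerDifferential.D A B (φ (MvPolynomial.X i)) := fun i => by
    show KaehlerDifferential.tensorKaehlerEquivOfFormallyEtale A (MvPolynomial (Fin m) A) B
      ((KaehlerDifferential.mvPolynomialBasis A (Fin m)).baseChange B i) = _
    rw [Module.Basis.baseChange_apply, KaehlerDifferential.mvPolynomialBasis_apply, ← LinearEquiv.eq_symm_apply]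
    exact (KaehlerDifferential.tensorKaehlerEquivOfFormallyEtale_symm_D_algebraMap A (MvPolynomial (Fin m) A) B
      (MvPolynomial.X i)).symm
  letI := X.presheaf.algebra_section_stalk (⟨z, hz⟩ : V)
  haveI : IsLocalization.AtPrime C (hV.primeIdealOf ⟨z, hz⟩).asIdeal := hV.isLocalization_stalk ⟨z, hz⟩
  let D₀ : Γ(X, V) →+ (Fin m → C) := AddMonoidHom.mk' (fun b i => γ (bas.repr (KaehlerDifferential.D A B b) i)) fun a b => by
    funext i
    simp
  obtain ⟨D, hD, hDB⟩ := LocDer.exists_extension (C := C) (hV.primeIdealOf ⟨z, hz⟩).asIdeal.primeCompl D₀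
    fun a b => by
      funext i
      show γ (bas.repr (KaehlerDifferential.D A B (a * b)) i) = γ a * γ (bas.repr (KaehlerDifferential.D A B b) i) +
        γ b * γ (bas.repr (KaehlerDifferential.D A B a) i)
      rw [Derivation.leibniz, map_add, map_smul, map_smul, Finsupp.add_apply, Finsupp.smul_apply,
        Finsupp.smul_apply, smul_eq_mul, smul_eq_mul, map_add, map_mul, map_mul]
  -- constants on the base
  have hbase : ∀ c, D (f.stalkMap z c) = 0 := by
    have hzU : f z ∈ U := e hz
    letI := Y.presheaf.algebra_section_stalk (⟨f z, hzU⟩ : U)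
    haveI : IsLocalization.AtPrime (Y.presheaf.stalk (f z)) (hU.primeIdealOf ⟨f z, hzU⟩).asIdeal :=
      hU.isLocalization_stalk ⟨f z, hzU⟩
    letI : Module (Y.presheaf.stalk (f z)) (Fin m → C) := Module.compHom _ (f.stalkMap z).hom
    have h := LocDer.ext_of_localization (hU.primeIdealOf ⟨f z, hzU⟩).asIdeal.primeCompl
      (D := D.comp (f.stalkMap z).hom.toAddMonoidHom) (D' := (0 : Y.presheaf.stalk (f z) →+ (Fin m → C)))
      (fun a b => by
        change D (f.stalkMap z (a * b)) = f.stalkMap z a • D (f.stalkMap z b) + f.stalkMap z b • D (f.stalkMap z a)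
        rw [map_mul, hD])
      (fun a b => by simp) fun r => by
        change D (f.stalkMap z (Y.presheaf.germ U (f z) hzU r)) = 0
        have : f.stalkMap z (Y.presheaf.germ U (f z) hzU r) = g (MvPolynomial.C r) := by
          rw [Scheme.Hom.germ_stalkMap_apply]
          show _ = γ (φ (MvPolynomial.C r))
          rw [hC]
          exact (X.presheaf.germ_res_apply (homOfLE e) z hz _).symm
        rw [this]
        refine (hDB (φ (MvPolynomial.C r))).trans ?_
        funext i
        show γ (bas.repr (KaehlerDifferential.D A B (φ (MvPolynomial.C r))) i) = 0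
        rw [hC, show f.appLE U V e r = algebraMap A B r from rfl, Derivation.map_algebraMap, map_zero,
          Finsupp.zero_apply, map_zero]
    exact fun c => congr($h c)
  obtain ⟨l, hl, -⟩ := hu (Fin m → C) D hD hbase
  let s := fun i => d.app V (φ (MvPolynomial.X i))
  let G : (Fin m → C) →ₗ[C] Ω.presheaf.stalk z := stalkComb Ω s z hz
  have hG : ∀ i, germM Ω V z hz (s i) = δ (g (MvPolynomial.X i)) := fun i => (hδ V hz _).symm
  have h1 : l.comp G = LinearMap.id := by
    refine LinearMap.pi_ext' fun i => LinearMap.ext_ring ?_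
    show l (G (Pi.single i 1)) = Pi.single i 1
    rw [show G (Pi.single i 1) = δ (g (MvPolynomial.X i)) from by
      rw [← hG]; exact (Fintype.linearCombination_apply_single C _ i 1).trans (one_smul _ _), hl]
    refine (hDB (φ (MvPolynomial.X i))).trans ?_
    funext j
    show γ (bas.repr (KaehlerDifferential.D A B (φ (MvPolynomial.X i))) j) = _
    rw [← hbas, Module.Basis.repr_self, Finsupp.single_apply, Pi.single_apply, apply_ite γ, map_one, map_zero]
    simp [eq_comm]
  have h2 : ∀ a, G (D a) = δ a := by
    have h := LocDer.ext_of_localization (hV.primeIdealOf ⟨z, hz⟩).asIdeal.primeCompl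
      (D := G.toAddMonoidHom.comp D) (D' := δ)
      (fun a b => by
        show G (D (a * b)) = a • G (D b) + b • G (D a)
        rw [hD, map_add, map_smul, map_smul])
      hmul fun b => by
        letI : Module B (Ω.presheaf.stalk z) := Module.compHom _ γ
        letI : Module A (Ω.presheaf.stalk z) := Module.compHom _ (γ.comp (algebraMap A B))
        haveI : IsScalarTower A B (Ω.presheaf.stalk z) := IsScalarTower.of_algebraMap_smul fun _ _ => rfl
        have hzero' : ∀ a : A, δ (γ (algebraMap A B a)) = 0 := fun a => by
          have := hzero (Y.presheaf.germ U (f z) (e hz) a)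
          rw [Scheme.Hom.germ_stalkMap_apply] at this
          refine Eq.trans (congrArg δ ?_) this
          exact X.presheaf.germ_res_apply (homOfLE e) z hz _
        let δB : Derivation A B (Ω.presheaf.stalk z) := Derivation.mk'
          { toFun := fun c => δ (γ c)
            map_add' := fun a b => by rw [map_add, map_add]
            map_smul' := fun a c => by
              show δ (γ (algebraMap A B a * c)) = γ (algebraMap A B a) • δ (γ c)
              rw [map_mul, hmul, hzero', smul_zero, add_zero] }
          (fun a b => by show δ (γ (a * b)) = γ a • δ (γ b) + γ b • δ (γ a); rw [map_mul, hmul])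
        have hL := Derivation.liftKaehlerDifferential_comp_D δB b
        show G (D (γ b)) = δ (γ b)
        rw [show D (γ b) = D₀ b from hDB b]
        refine Eq.trans ?_ hL
        conv_rhs => rw [← bas.sum_repr (KaehlerDifferential.D A B b), map_sum]
        refine (stalkComb_single s z hz _).trans (Finset.sum_congr rfl fun i _ => ?_)
        rw [LinearMap.map_smul, hbas, Derivation.liftKaehlerDifferential_comp_D]
        exact congrArg (γ _ • ·) (hG i)
    exact fun a => congr($h a)
  obtain ⟨l₀, -, huniq⟩ := hu (Ω.presheaf.stalk z) δ hmul hzero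
  have h3 : G.comp l = LinearMap.id := by
    refine (huniq _ fun a => ?_).trans (huniq _ fun a => rfl).symm
    show G (l (δ a)) = δ a
    rw [hl, h2]
  exact ⟨Function.LeftInverse.injective fun a => congr($h1 a), Function.RightInverse.surjective fun a => congr($h3 a)⟩

end Groth.Agent.Unram24.EtaleFrame
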