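import Groth.Agent.Unram24.LogSub
import Groth.Agent.Unram24.EtaleFrame
import Groth.Agent.LiftLib.NCDChart
import Groth.Agent.Omega.LocalStructure
import Groth.Agent.Omega.Charts
import Groth.Agent.EulerChar.Rank
import Groth.Agent.FinCov71.Rank

/-!
# A frame of the sheaf of logarithmic differentials
-/

set_option autoImplicit false
set_option backward.isDefEq.respectTransparency.types false
set_option linter.style.haveILetI false

universe u

open CategoryTheory CategoryTheory.Limits AlgebraicGeometry Opposite TopologicalSpace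

noncomputable section

namespace Groth.Agent.Unram24.LogFrame

open Groth.Agent.PullStalk.Sky Groth.Agent.PullStalk.Exact Groth.Agent.Omega.Stalks
  Groth.Agent.ExtFilt.Stalkwise Groth.Agent.QCoh Groth.Agent.Props.SubMod Groth.Agent.Props.SubSheaf
  Groth.Agent.Unram24.LogRes Groth.Agent.LFFrame

variable {X S : Scheme.{u}} {f : X ⟶ S} {Ω' : X.Modules} {d : OmegaSh.Der f Ω'}

/-- Rank of a universal receptacle of a morphism smooth of relative dimension `n`. -/
theorem isFinLocFreeOfRank_universal (n : ℕ) [SmoothOfRelativeDimension n f] (hd : OmegaSh.IsUniversal d) :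
    FlatMod.IsFinLocFreeOfRank n Ω' := by
  intro x
  obtain ⟨U, hU, V, hV, hxV, e, hs⟩ :=
    SmoothOfRelativeDimension.exists_isStandardSmoothOfRelativeDimension (f := f) (n := n) x
  let := (f.appLE U V e).hom.toAlgebra
  haveI : Algebra.IsStandardSmoothOfRelativeDimension n Γ(S, U) Γ(X, V) := hs
  haveI : Algebra.IsStandardSmooth Γ(S, U) Γ(X, V) :=
    Algebra.IsStandardSmoothOfRelativeDimension.isStandardSmooth n
  haveI : Nontrivial Γ(X, V) := (X.presheaf.germ V x hxV).hom.domain_nontrivial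
  have hrank : Module.finrank Γ(X, V) (KaehlerDifferential Γ(S, U) Γ(X, V)) = n :=
    Module.finrank_eq_of_rank_eq (Algebra.IsStandardSmoothOfRelativeDimension.rank_kaehlerDifferential n)
  obtain ⟨i⟩ := Omega.LocalStructure.exists_tilde_iso hd hU hV e
  obtain ⟨j⟩ := Omega.Charts.exists_free_restrict Ω' hV
    (Omega.SpecDer.omegaMod Γ(S, U) Γ(X, V)) i
  exact ⟨V, hxV, ⟨j ≪≫ eqToIso (congrArg (FlatMod.freeMod (↑V)) hrank)⟩⟩

variable {r : ℕ} {D : Fin r → X.IdealSheafData}

/-- A chart with a frame of differentials adapted to the divisor. -/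
theorem exists_adapted [Smooth f] (hd : OmegaSh.IsUniversal d) (hD : LogNCD.IsNCD D f) (x : X) :
    ∃ (U : X.affineOpens) (g : Fin r → Γ(X, U.1)) (n : ℕ) (v : Fin n → Γ(X, U.1))
      (e : LogNCD.Through D x → Fin n), x ∈ U.1 ∧ Function.Injective e ∧
      IsFrame Ω' U.1 (fun j => d.app U.1 (v j)) ∧ (∀ i, (D i).ideal U = Ideal.span {g i}) ∧
      (∀ i : LogNCD.Through D x, g i.1 = v (e i)) ∧ ∀ i, x ∉ (D i).support → g i = 1 := by
  classical
  obtain ⟨O, hO, hxO, -⟩ := exists_isAffineOpen_mem_and_subset (U := (⊤ : S.Opens)) (x := f x) trivial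
  obtain ⟨V, hle, n, ψ, e, hxV, -, hC, hψ, he, hi, hm⟩ :=
    LiftLib.NCDChart.exists_chart f D hD x ⊤ trivial ⟨O, hO⟩ hxO
  have hfe : ψ.FormallyEtale := by
    letI := ψ.toAlgebra
    haveI : Algebra.Etale (MvPolynomial (Fin n) Γ(S, O)) Γ(X, V.1) := hψ
    exact (inferInstance : Algebra.FormallyEtale (MvPolynomial (Fin n) Γ(S, O)) Γ(X, V.1))
  refine ⟨V, fun i => if h : x ∈ (D i).support then ψ (MvPolynomial.X (e ⟨i, h⟩)) else 1, n,
    fun j => ψ (MvPolynomial.X j), e, hxV, he,
    EtaleFrame.isFrame_d_of_etale hd hO V.2 hle ψ (fun a => congr($hC a)) hfe, fun i => ?_, fun i => ?_, fun i h => ?_⟩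
  · by_cases h : x ∈ (D i).support
    · simp only [h, ↓reduceDIte]; exact hi ⟨i, h⟩
    · simp only [h, ↓reduceDIte, Ideal.span_singleton_one]; exact hm i h
  · simp only [i.2, ↓reduceDIte]; rfl
  · simp only [h, ↓reduceDIte]

/-- The product of the equations is regular on stalks of an adapted chart. -/
theorem regular_prod (Λ : LogNCD.LogMod d D) {U : X.affineOpens} {g : Fin r → Γ(X, U.1)}
    (hg : ∀ i, (D i).ideal U = Ideal.span {g i}) {n : ℕ} {v : Fin n → Γ(Ω', U.1)} (hv : IsFrame Ω' U.1 v)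
    (y : X) (hy : y ∈ U.1) (j : Fin n) (a : X.presheaf.stalk y)
    (ha : X.presheaf.germ U.1 y hy (∏ i, g i) * a = 0) : a = 0 := by
  classical
  haveI := Λ.mono
  have h1 : stalkLin Λ.ι y (stalkComb Ω' v y hy (Pi.single j a)) = 0 := by
    refine LogSub.torsionFree_stalk Λ U g hg y hy _ ?_
    rw [← LinearMap.map_smul, ← LinearMap.map_smul, show X.presheaf.germ U.1 y hy (∏ i, g i) • Pi.single j a = 0 from by
      rw [← Pi.single_smul, smul_eq_mul, ha, Pi.single_zero]]
    rw [map_zero, map_zero]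
  have h2 := (hv.stalkComb_bijective y hy).1
    ((stalkLin_injective_of_mono Λ.ι y (h1.trans (map_zero _).symm)).trans (map_zero _).symm)
  simpa using congrFun h2 j

/-- `Ω¹(log D)` is finite locally free. -/
theorem exists_frame [Smooth f] (hd : OmegaSh.IsUniversal d) (hD : LogNCD.IsNCD D f) (Λ : LogNCD.LogMod d D) (x : X) :
    ∃ (U : X.Opens) (n : ℕ) (v : Fin n → Γ(Ω', U)) (w : Fin n → Γ(Λ.L, U)),
      x ∈ U ∧ IsFrame Ω' U v ∧ IsFrame Λ.L U w := by
  classical
  obtain ⟨U, g, n, v, e, hxU, he, hv, hg, hgv, hg1⟩ := exists_adapted hd hD x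
  obtain ⟨dl, h1, h2, h3, h4⟩ := exists_expansion Λ U g hg
  let b : Fin n → Γ(Ω', U.1) := fun j => d.app U.1 (v j)
  let w : Fin n → Γ(Λ.L, U.1) := fun j => if h : ∃ i, e i = j then dl h.choose.1 else Λ.ι.app U.1 (b j)
  have hw : ∀ i : LogNCD.Through D x, w (e i) = dl i.1 := fun i => by
    have h : ∃ i', e i' = e i := ⟨i, rfl⟩
    simp only [w, h, ↓reduceDIte]
    rw [he h.choose_spec]
  have hdl0 : ∀ i, x ∉ (D i).support → dl i = 0 := fun i h => by
    have := h1 i
    rw [hg1 i h, one_smul] at this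
    rw [this, show d.app U.1 (1 : Γ(X, U.1)) = 0 from PresheafOfModules.Derivation.d_one d (op U.1), map_zero]
  refine ⟨U.1, n, b, w, hxU, hv, isFrame_of_stalkComb_bijective fun y hy => ?_⟩
  haveI := Λ.mono
  have hcomb : ∀ {M : X.Modules} (s : Fin n → Γ(M, U.1)) (a : Fin n → X.presheaf.stalk y),
      stalkComb M s y hy a = ∑ j, a j • germM M U.1 y hy (s j) := fun s a => Fintype.linearCombination_apply _ _ _
  constructor
  · rw [injective_iff_map_eq_zero]
    intro a ha
    -- multiply by the product of the equations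
    let G := X.presheaf.germ U.1 y hy (∏ i, g i)
    let c : Fin n → X.presheaf.stalk y := fun j =>
      if h : ∃ i, e i = j then X.presheaf.germ U.1 y hy (∏ k ∈ Finset.univ.erase h.choose.1, g k) else G
    have hGw : ∀ j, G • germM Λ.L U.1 y hy (w j) = c j • stalkLin Λ.ι y (germM Ω' U.1 y hy (b j)) := fun j => by
      rw [stalkLin_germ]
      by_cases h : ∃ i, e i = j
      · simp only [w, c, h, ↓reduceDIte]
        rw [← germM_smul, ← germM_smul]
        refine congrArg _ ?_
        rw [← Finset.prod_erase_mul _ _ (Finset.mem_univ h.choose.1), mul_smul, h1, hgv h.choose, h.choose_spec]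
      · simp only [w, c, h, ↓reduceDIte]
    have h0 : stalkLin Λ.ι y (stalkComb Ω' b y hy (fun j => a j * c j)) = 0 := by
      rw [hcomb, map_sum]
      have := congrArg (G • ·) ha
      simp only [smul_zero] at this
      rw [hcomb, Finset.smul_sum] at this
      refine Eq.trans (Finset.sum_congr rfl fun j _ => ?_) this
      rw [LinearMap.map_smul, mul_smul, ← hGw, smul_comm]
    have h5 := (hv.stalkComb_bijective y hy).1
      ((stalkLin_injective_of_mono Λ.ι y (h0.trans (map_zero _).symm)).trans (map_zero _).symm)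
    funext j
    have h6 : a j * c j = 0 := congrFun h5 j
    refine regular_prod Λ hg hv y hy j (a j) ?_
    by_cases h : ∃ i, e i = j
    · simp only [c, h, ↓reduceDIte] at h6
      rw [← Finset.prod_erase_mul _ _ (Finset.mem_univ h.choose.1), map_mul, mul_comm, ← mul_assoc, h6, zero_mul]
    · simp only [c, h, ↓reduceDIte] at h6
      rw [mul_comm]; exact h6
  · have hι : ∀ z, stalkLin Λ.ι y z ∈ LinearMap.range (stalkComb Λ.L w y hy) := by
      intro z
      obtain ⟨a, rfl⟩ := (hv.stalkComb_bijective y hy).2 z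
      rw [hcomb, map_sum]
      refine Submodule.sum_mem _ fun j _ => ?_
      rw [LinearMap.map_smul]
      refine Submodule.smul_mem _ _ ?_
      by_cases h : ∃ i, e i = j
      · rw [stalkLin_germ, ← h.choose_spec]
        show germM Λ.L U.1 y hy (Λ.ι.app U.1 (d.app U.1 (v (e h.choose)))) ∈ _
        rw [← hgv, ← h1, germM_smul, ← hw]
        refine Submodule.smul_mem _ _ ⟨Pi.single (e h.choose) 1, ?_⟩
        exact (Fintype.linearCombination_apply_single _ _ _ _).trans (one_smul _ _)
      · refine ⟨Pi.single j 1, ((Fintype.linearCombination_apply_single _ _ _ _).trans (one_smul _ _)).trans ?_⟩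
        simp only [w, h, ↓reduceDIte]
        rw [stalkLin_germ]
    have hdl : ∀ i, germM Λ.L U.1 y hy (dl i) ∈ LinearMap.range (stalkComb Λ.L w y hy) := by
      intro i
      by_cases h : x ∈ (D i).support
      · refine ⟨Pi.single (e ⟨i, h⟩) 1, ((Fintype.linearCombination_apply_single _ _ _ _).trans (one_smul _ _)).trans ?_⟩
        rw [hw]
      · rw [hdl0 i h]
        rw [show germM Λ.L U.1 y hy 0 = 0 from map_zero _]
        exact Submodule.zero_mem _
    intro t
    obtain ⟨W, hyW, m, rfl⟩ := exists_germM_eq Λ.L y t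
    obtain ⟨U', hU', hyU', hle⟩ := exists_isAffineOpen_mem_and_subset (U := U.1 ⊓ W) (x := y) ⟨hy, hyW⟩
    have hle₁ : U' ≤ U.1 := le_trans hle inf_le_left
    have hle₂ : U' ≤ W := le_trans hle inf_le_right
    let g' : Fin r → Γ(X, U') := fun i => X.presheaf.map (homOfLE hle₁).op (g i)
    have hg' : ∀ i, (D i).ideal ⟨U', hU'⟩ = Ideal.span {g' i} := fun i => by
      rw [← (D i).map_ideal (U := ⟨U', hU'⟩) (V := U) hle₁, hg i, Ideal.map_span, Set.image_singleton]
      rfl
    obtain ⟨dl', h1', h2', -, -⟩ := exists_expansion Λ ⟨U', hU'⟩ g' hg'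
    have hsame : ∀ i, germM Λ.L U' y hyU' (dl' i) = germM Λ.L U.1 y hy (dl i) := fun i => by
      refine sub_eq_zero.mp (LogSub.torsionFree_stalk Λ U g hg y hy _ ?_)
      rw [← Finset.prod_erase_mul _ _ (Finset.mem_univ i), map_mul, mul_smul, smul_sub]
      have ea : X.presheaf.germ U.1 y hy (g i) • germM Λ.L U' y hyU' (dl' i) =
          stalkLin Λ.ι y (germM Ω' U.1 y hy (d.app U.1 (g i))) := by
        rw [← X.presheaf.germ_res_apply (homOfLE hle₁) y hyU' (g i), ← germM_smul]
        refine (congrArg _ (h1' i)).trans ?_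
        refine (stalkLin_germ Λ.ι U' y hyU' _).symm.trans (congrArg _ ?_)
        rw [show d.app U' (g' i) = res Ω' hle₁ (d.app U.1 (g i)) from d.d_map (homOfLE hle₁).op (g i), germM_res']
      rw [ea, ← germM_smul, h1 i, stalkLin_germ, sub_self, smul_zero]
    obtain ⟨z, a, hm⟩ := h2' (res Λ.L hle₂ m)
    rw [← LinearMap.mem_range, ← germM_res' Λ.L hle₂ y hyU' m, hm]
    rw [show germM Λ.L U' y hyU' (Λ.ι.app U' z + ∑ i, a i • dl' i) =
        stalkLin Λ.ι y (germM Ω' U' y hyU' z) + ∑ i, X.presheaf.germ U' y hyU' (a i) • germM Λ.L U.1 y hy (dl i) from by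
      refine (map_add (Λ.L.presheaf.germ U' y hyU').hom _ _).trans (congrArg₂ (· + ·) (stalkLin_germ Λ.ι U' y hyU' z).symm ?_)
      refine (map_sum (Λ.L.presheaf.germ U' y hyU').hom _ _).trans (Finset.sum_congr rfl fun i _ => ?_)
      rw [← hsame i]
      exact germM_smul Λ.L U' y hyU' (a i) (dl' i)]
    exact Submodule.add_mem _ (hι _) (Submodule.sum_mem _ fun i _ => Submodule.smul_mem _ _ (hdl i))

/-- `Ω¹(log D)` is locally free of the relative dimension. -/
theorem isFinLocFreeOfRank (n : ℕ) [SmoothOfRelativeDimension n f] (hd : OmegaSh.IsUniversal d)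
    (hD : LogNCD.IsNCD D f) (Λ : LogNCD.LogMod d D) : FlatMod.IsFinLocFreeOfRank n Λ.L := by
  intro x
  haveI : Smooth f := SmoothOfRelativeDimension.smooth n f
  obtain ⟨U, m, v, w, hxU, hv, hw⟩ := exists_frame hd hD Λ x
  obtain ⟨ε⟩ := EulerChar.stalk_ofRank (isFinLocFreeOfRank_universal n hd) x
  let ε' := LinearEquiv.ofBijective _ (hv.stalkComb_bijective x hxU)
  obtain rfl : m = n := by
    simpa using (ε'.trans ε.symm).finrank_eq
  exact ⟨U, hxU, FinCov71.IsFrame.nonempty_iso_freeMod hw⟩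

end Groth.Agent.Unram24.LogFrame
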