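import Groth.Agent.IdealSh.Comap
import Groth.Agent.Omega.ProdDiff
import Groth.Agent.EulerChar.Cartier
import Groth.Agent.ExtFilt.Stalkwise
import Groth.Prelude.Def_LogNCD

/-!
# Residue sequences of the sheaf of logarithmic differentials
-/

set_option autoImplicit false
set_option backward.isDefEq.respectTransparency.types false
set_option linter.style.haveILetI false

universe u

open CategoryTheory CategoryTheory.Limits AlgebraicGeometry Opposite TopologicalSpace

noncomputable section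

namespace Groth.Agent.Unram24.LogRes

open Groth.Agent.PullStalk.Sky Groth.Agent.PullStalk.Exact Groth.Agent.Omega.Stalks Groth.Agent.QCoh

variable {X S : Scheme.{u}} {f : X ⟶ S} {Ω' : X.Modules} {d : OmegaSh.Der f Ω'} {r : ℕ}
  {D : Fin r → X.IdealSheafData}

/-- The ideal of a closed subset missing an affine open is trivial there. -/
theorem ideal_eq_top_of_disjoint (I : X.IdealSheafData) (V : X.affineOpens)
    (h : Disjoint (V.1 : Set X) (I.support : Set X)) : I.ideal V = ⊤ := by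
  haveI : IsAffine (V.1 : Scheme.{u}) := V.2
  have hc : I.comap V.1.ι = ⊤ := IdealSh.Comap.comap_eq_top_of_disjoint I V.1.ι (by
    rw [Scheme.Opens.range_ι]; exact h)
  have h1 := IdealSh.Comap.ideal_comap I V.1.ι V ⟨⊤, isAffineOpen_top _⟩ V.1.ι_preimage_self.ge
  rw [hc] at h1
  have hb : Function.Bijective (V.1.ι.appLE V.1 ⊤ V.1.ι_preimage_self.ge).hom :=
    ConcreteCategory.bijective_of_isIso _
  let e := RingEquiv.ofBijective _ hb
  rw [← Ideal.comap_map_of_bijective _ hb (I := I.ideal V), ← h1]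
  rfl

/-- Components of a normal crossing divisor are principal on a basis of affine opens. -/
theorem exists_principal (hD : LogNCD.IsNCD D f) (x : X) (W₀ : X.Opens) (hx₀ : x ∈ W₀) :
    ∃ (U : X.affineOpens) (g : Fin r → Γ(X, U.1)), x ∈ U.1 ∧ U.1 ≤ W₀ ∧
      ∀ i, (D i).ideal U = Ideal.span {g i} := by
  classical
  by_cases hne : Nonempty (LogNCD.Through D x)
  · obtain ⟨W, hxW, n, v, e, -, -, hv, hv'⟩ := hD x hne
    obtain ⟨U, hU, hxU, hle⟩ := exists_isAffineOpen_mem_and_subset (U := W ⊓ W₀) (x := x) ⟨hxW, hx₀⟩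
    have hUW : U ≤ W := fun a ha => (hle ha).1
    refine ⟨⟨U, hU⟩, fun i => if h : x ∈ (D i).support then LogNCD.sectOn W hUW (v (ULift.up (e ⟨i, h⟩))) else 1,
      hxU, fun a ha => (hle ha).2, fun i => ?_⟩
    by_cases h : x ∈ (D i).support
    · simp only [h, ↓reduceDIte]; exact hv ⟨i, h⟩ ⟨U, hU⟩ hUW
    · simp only [h, ↓reduceDIte, Ideal.span_singleton_one]; exact hv' i h ⟨U, hU⟩ hUW
  · have hx : x ∈ (⋃ i, ((D i).support : Set X))ᶜ := by
      simp only [Set.mem_compl_iff, Set.mem_iUnion, not_exists]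
      exact fun i hi => hne ⟨⟨i, hi⟩⟩
    let O : X.Opens := ⟨(⋃ i, ((D i).support : Set X))ᶜ,
      (isClosed_iUnion_of_finite fun i => (D i).support.isClosed).isOpen_compl⟩
    obtain ⟨U, hU, hxU, hle⟩ := exists_isAffineOpen_mem_and_subset (U := O ⊓ W₀) (x := x) ⟨hx, hx₀⟩
    refine ⟨⟨U, hU⟩, fun _ => 1, hxU, fun a ha => (hle ha).2, fun i => ?_⟩
    rw [Ideal.span_singleton_one]
    exact ideal_eq_top_of_disjoint (D i) ⟨U, hU⟩
      (Set.disjoint_left.mpr fun a ha hai => (hle ha).1 (Set.mem_iUnion.mpr ⟨i, hai⟩))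

/-- The residue of a function multiple of `dl`. -/
theorem app_smul_oneOn {M : X.Modules} (I : X.IdealSheafData) (φ : M ⟶ ClSub.quotMod I) (U : X.Opens)
    (a : Γ(X, U)) (m : Γ(M, U)) (hm : φ.app U m = LogNCD.oneOn I U) :
    φ.app U (a • m) = (ClSub.toSubscheme I).app U (OmegaSh.strSect X U a) := by
  rw [Scheme.Modules.Hom.app_smul, hm]
  refine ((Scheme.Modules.Hom.app_smul (ClSub.toSubscheme I) a (OmegaSh.strSect X U 1)).symm).trans ?_
  exact congrArg ((ClSub.toSubscheme I).app U) (mul_one a)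

/-- The kernel of restriction to a component. -/
theorem toSubscheme_eq_zero_iff (I : X.IdealSheafData) (U : X.affineOpens) (a : Γ(X, U.1)) :
    (ClSub.toSubscheme I).app U.1 (OmegaSh.strSect X U.1 a) = 0 ↔ a ∈ I.ideal U := by
  rw [← I.ker_subschemeι_app U]
  exact Iff.rfl

/-- A section of `Ω¹(log D)` on a principal chart with the given residues. -/
theorem exists_expansion (Λ : LogNCD.LogMod d D) (U : X.affineOpens) (g : Fin r → Γ(X, U.1))
    (hg : ∀ i, (D i).ideal U = Ideal.span {g i}) :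
    ∃ dl : Fin r → Γ(Λ.L, U.1), (∀ i, g i • dl i = Λ.ι.app U.1 (d.app U.1 (g i))) ∧
      (∀ m : Γ(Λ.L, U.1), ∃ (w : Γ(Ω', U.1)) (a : Fin r → Γ(X, U.1)),
        m = Λ.ι.app U.1 w + ∑ i, a i • dl i) ∧
      (∀ i, (Λ.res i).app U.1 (dl i) = LogNCD.oneOn (D i) U.1) ∧
      (∀ i j, i ≠ j → (Λ.res j).app U.1 (dl i) = 0) := by
  obtain ⟨-, dl, h1, h2, h3, h4⟩ := Λ.rule U g hg
  refine ⟨dl, h1, fun m => ?_, h3, h4⟩
  let m' : Λ.L.val.obj (op U.1) := m
  have hm : m' ∈ Submodule.span Γ(X, U.1)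
      (Set.range ((Λ.ι.val.app (op U.1)).hom) ∪ Set.range dl) := by rw [h2]; trivial
  rw [Submodule.span_union] at hm
  obtain ⟨y, hy, z, hz, hsum⟩ := Submodule.mem_sup.mp hm
  have hy' : y ∈ Set.range ((Λ.ι.val.app (op U.1)).hom) := by
    clear hsum
    induction hy using Submodule.span_induction with
    | mem z hz => exact hz
    | zero => exact ⟨0, map_zero _⟩
    | add p q _ _ hp hq =>
      obtain ⟨p', rfl⟩ := hp
      obtain ⟨q', rfl⟩ := hq
      exact ⟨p' + q', map_add _ _ _⟩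
    | smul c p _ hp =>
      obtain ⟨p', rfl⟩ := hp
      exact ⟨c • p', LinearMap.map_smul _ c p'⟩
  obtain ⟨w, rfl⟩ := hy'
  obtain ⟨a, ha⟩ := (Submodule.mem_span_range_iff_exists_fun (R := Γ(X, U.1)) (v := dl)).mp hz
  refine ⟨w, a, ?_⟩
  change m' = _
  rw [← hsum, ← ha]
  rfl

/-- The residue of an expansion. -/
theorem res_expansion (Λ : LogNCD.LogMod d D) (U : X.Opens) {dl : Fin r → Γ(Λ.L, U)}
    (h3 : ∀ i, (Λ.res i).app U (dl i) = LogNCD.oneOn (D i) U)
    (h4 : ∀ i j, i ≠ j → (Λ.res j).app U (dl i) = 0) (w : Γ(Ω', U)) (a : Fin r → Γ(X, U)) (j : Fin r) :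
    (Λ.res j).app U (Λ.ι.app U w + ∑ i, a i • dl i) =
      (ClSub.toSubscheme (D j)).app U (OmegaSh.strSect X U (a j)) := by
  rw [map_add, map_sum, Finset.sum_eq_single j (fun i _ hi => by
    rw [Scheme.Modules.Hom.app_smul, h4 i j hi, smul_zero]) (fun h => absurd (Finset.mem_univ j) h),
    app_smul_oneOn (D j) (Λ.res j) U (a j) (dl j) (h3 j)]
  have h0 : (Λ.res j).app U (Λ.ι.app U w) = 0 :=
    congrArg (fun φ : Ω' ⟶ ClSub.quotMod (D j) => φ.app U w) (Λ.res_ι j)
  rw [h0, zero_add]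

/-- A stalk element killed by residues comes, on a principal chart, from a section killed by them. -/
theorem exists_lift_of_res_eq_zero (hD : LogNCD.IsNCD D f) (Λ : LogNCD.LogMod d D) (J : Finset (Fin r))
    (x : X) (t : Λ.L.presheaf.stalk x) (ht : ∀ j ∈ J, stalkLin (Λ.res j) x t = 0) :
    ∃ (U : X.affineOpens) (g : Fin r → Γ(X, U.1)) (hx : x ∈ U.1) (m : Γ(Λ.L, U.1)),
      (∀ i, (D i).ideal U = Ideal.span {g i}) ∧ germM Λ.L U.1 x hx m = t ∧
      ∀ j ∈ J, (Λ.res j).app U.1 m = 0 := by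
  classical
  obtain ⟨U₀, hx₀, m₀, rfl⟩ := exists_germM_eq Λ.L x t
  have key : ∀ J' : Finset (Fin r), J' ⊆ J → ∃ (W : X.Opens) (hW : W ≤ U₀), x ∈ W ∧
      ∀ j ∈ J', (Λ.res j).app W (Λ.L.presheaf.map (homOfLE hW).op m₀) = 0 := by
    intro J'
    induction J' using Finset.induction with
    | empty => exact fun _ => ⟨U₀, le_rfl, hx₀, fun j hj => absurd hj (Finset.notMem_empty j)⟩
    | insert j J' hj ih =>
      intro hsub
      obtain ⟨W, hW, hxW, hWJ⟩ := ih (fun a ha => hsub (Finset.mem_insert_of_mem ha))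
      have hz := ht j (hsub (Finset.mem_insert_self j J'))
      rw [stalkLin_germ] at hz
      obtain ⟨W', hxW', i₁, i₂, hi⟩ := (ClSub.quotMod (D j)).presheaf.germ_eq x hx₀ hx₀
        ((Λ.res j).app U₀ m₀) 0 (hz.trans (map_zero ((ClSub.quotMod (D j)).presheaf.germ U₀ x hx₀).hom).symm)
      have hi' : res (ClSub.quotMod (D j)) (leOfHom i₁) ((Λ.res j).app U₀ m₀) = 0 := hi.trans (map_zero _)
      refine ⟨W ⊓ W', inf_le_left.trans hW, ⟨hxW, hxW'⟩, fun k hk => ?_⟩
      show (Λ.res k).app _ (res Λ.L _ m₀) = 0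
      rw [app_res]
      rcases Finset.mem_insert.mp hk with hk | hk
      · subst hk
        rw [← res_res _ (leOfHom i₁) (inf_le_right : W ⊓ W' ≤ W'), hi', map_zero]
      · rw [← res_res _ hW (inf_le_left : W ⊓ W' ≤ W), ← app_res]
        exact (congrArg _ (hWJ k hk)).trans (map_zero _)
  obtain ⟨W, hW, hxW, hWJ⟩ := key J subset_rfl
  obtain ⟨U, g, hxU, hUW, hg⟩ := exists_principal hD x W hxW
  refine ⟨U, g, hxU, res Λ.L (hUW.trans hW) m₀, hg,
    Λ.L.presheaf.germ_res_apply (homOfLE (hUW.trans hW)) x hxU m₀, fun j hj => ?_⟩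
  rw [← res_res _ hW hUW, app_res]
  exact (congrArg _ (hWJ j hj)).trans (map_zero _)

/-- The stalk of a component is generated by the germ of `1`. -/
theorem exists_smul_one (I : X.IdealSheafData) (U : X.Opens) (x : X) (hx : x ∈ U)
    (t : (ClSub.quotMod I).presheaf.stalk x) :
    ∃ a : X.presheaf.stalk x, a • germM (ClSub.quotMod I) U x hx (LogNCD.oneOn I U) = t := by
  haveI := EulerChar.epi_toSubscheme I
  obtain ⟨t', rfl⟩ := stalk_surjective (ClSub.toSubscheme I) x t
  obtain ⟨W, hxW, c, rfl⟩ := exists_germM_eq _ x t'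
  let c' : Γ(X, W) := c
  refine ⟨X.presheaf.germ W x hxW c', ?_⟩
  have e1 : LogNCD.oneOn I U = (ClSub.toSubscheme I).app U (OmegaSh.strSect X U 1) := rfl
  have e2 : X.presheaf.map (homOfLE (inf_le_left : W ⊓ U ≤ W)).op c' • res (Coh.structureModule X) (inf_le_right : W ⊓ U ≤ U)
      (OmegaSh.strSect X U 1) = res (Coh.structureModule X) (inf_le_left : W ⊓ U ≤ W) c := by
    show X.presheaf.map _ c' * X.presheaf.map _ (1 : Γ(X, U)) = X.presheaf.map _ c'
    exact (congrArg (_ * ·) (map_one _)).trans (mul_one _)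
  have e3 : germM (Coh.structureModule X) W x hxW c =
      X.presheaf.germ W x hxW c' • germM (Coh.structureModule X) U x hx (OmegaSh.strSect X U 1) := by
    rw [← ExtFilt.Stalkwise.germM_res' _ (inf_le_left : W ⊓ U ≤ W) x ⟨hxW, hx⟩ c, ← e2, germM_smul,
      ExtFilt.Stalkwise.germM_res', X.presheaf.germ_res_apply]
  rw [e1, ← stalkLin_germ, e3, LinearMap.map_smul]

/-- The residue sequence is short exact. -/
theorem shortExact_res (hD : LogNCD.IsNCD D f) (Λ : LogNCD.LogMod d D) (h : Λ.ι ≫ Pi.lift Λ.res = 0) :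
    (ShortComplex.mk Λ.ι (Pi.lift Λ.res) h).ShortExact := by
  classical
  let Q : Fin r → X.Modules := fun j => ClSub.quotMod (D j)
  have hproj : ∀ j x t, stalkLin (Pi.π Q j) x (stalkLin (Pi.lift Λ.res) x t) = stalkLin (Λ.res j) x t :=
    fun j x t => by rw [← stalkLin_comp, Pi.lift_π]
  refine { mono_f := Λ.mono, epi_g := ?epi, exact := exact_of_stalk _ fun x t ht => ?exact }
  case epi =>
    refine epi_of_stalk fun x t => ?_
    obtain ⟨U, g, hxU, -, hg⟩ := exists_principal hD x ⊤ trivial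
    obtain ⟨dl, -, -, h3, h4⟩ := exists_expansion Λ U g hg
    choose a ha using fun j => exists_smul_one (D j) U.1 x hxU (stalkLin (Pi.π Q j) x t)
    refine ⟨∑ j, a j • germM Λ.L U.1 x hxU (dl j), ?_⟩
    have key : ∀ j, stalkLin (Pi.π Q j) x (stalkLin (Pi.lift Λ.res) x (∑ i, a i • germM Λ.L U.1 x hxU (dl i))) =
        stalkLin (Pi.π Q j) x t := by
      intro j
      rw [hproj, map_sum, Finset.sum_eq_single j (fun i _ hi => by
        rw [LinearMap.map_smul, stalkLin_germ, h4 i j hi]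
        exact (congrArg _ (map_zero _)).trans (smul_zero _)) (fun h => absurd (Finset.mem_univ j) h),
        LinearMap.map_smul, stalkLin_germ, h3 j]
      exact ha j
    have hid : ∑ j, Pi.π Q j ≫ Pi.lift (fun k => if hjk : j = k then eqToHom (congrArg Q hjk) else 0) = 𝟙 (∏ᶜ Q) := by
      refine Pi.hom_ext _ _ fun k => ?_
      rw [Preadditive.sum_comp, Finset.sum_eq_single k (fun i _ hi => by
        rw [Category.assoc, Pi.lift_π, dif_neg hi, comp_zero]) (fun h => absurd (Finset.mem_univ k) h),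
        Category.assoc, Pi.lift_π, dif_pos rfl, eqToHom_refl, Category.comp_id, Category.id_comp]
    have hdec : ∀ u : (∏ᶜ Q).presheaf.stalk x, u = ∑ j, stalkLin (Pi.lift (fun k =>
        if hjk : j = k then eqToHom (congrArg Q hjk) else 0)) x (stalkLin (Pi.π Q j) x u) := fun u => by
      conv_lhs => rw [show u = stalkLin (𝟙 (∏ᶜ Q)) x u from (Omega.ProdDiff.stalkLin_id x u).symm, ← hid]
      induction (Finset.univ : Finset (Fin r)) using Finset.induction with
      | empty => rw [Finset.sum_empty, Finset.sum_empty, stalkLin_zero]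
      | insert j s hj ih => rw [Finset.sum_insert hj, Finset.sum_insert hj, Omega.ProdDiff.stalkLin_add, ih, stalkLin_comp]
    rw [hdec t, hdec (stalkLin (Pi.lift Λ.res) x _)]
    exact Finset.sum_congr rfl fun j _ => congrArg _ (key j)
  case exact =>
    obtain ⟨U, g, hxU, m, hg, rfl, hm⟩ := exists_lift_of_res_eq_zero hD Λ Finset.univ x t (fun j _ => by
      rw [← hproj]
      exact (congrArg _ (LinearMap.mem_ker.mp ht)).trans (map_zero _))
    obtain ⟨dl, h1, h2, h3, h4⟩ := exists_expansion Λ U g hg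
    obtain ⟨w, a, rfl⟩ := h2 m
    have hc : ∀ j, ∃ c, c * g j = a j := fun j => by
      rw [← Ideal.mem_span_singleton', ← hg j, ← toSubscheme_eq_zero_iff, ← res_expansion Λ U.1 h3 h4 w a j]
      exact hm j (Finset.mem_univ j)
    choose c hc using hc
    refine ⟨germM Ω' U.1 x hxU (w + ∑ j, c j • d.app U.1 (g j)), (stalkLin_germ _ _ _ _ _).trans (congrArg _ ?_)⟩
    show Λ.ι.app U.1 _ = _
    rw [map_add, map_sum]
    refine congrArg _ (Finset.sum_congr rfl fun j _ => ?_)
    rw [Scheme.Modules.Hom.app_smul, ← h1 j, smul_smul, hc j]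

end Groth.Agent.Unram24.LogRes
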