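import Groth.Agent.Unram24.LogExists
import Groth.Agent.LiftLib.NCDChart
import Groth.Agent.Omega.LocalStructure
import Groth.Agent.Omega.Chart
import Mathlib.RingTheory.Smooth.Flat

/-!
# Logarithmic charts of a normal crossing divisor
-/

set_option autoImplicit false
set_option backward.isDefEq.respectTransparency.types false
set_option linter.style.haveILetI false

universe u

open CategoryTheory CategoryTheory.Limits AlgebraicGeometry Opposite TopologicalSpace nonZeroDivisors

noncomputable section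

namespace Groth.Agent.Unram24.LogCharts

open Groth.Agent.PullStalk.Sky Groth.Agent.PullStalk.Exact Groth.Agent.Omega.Stalks
  Groth.Agent.ExtFilt.Stalkwise Groth.Agent.QCoh Groth.Agent.LFFrame Groth.Agent.Unram24.LogExists

variable {X S : Scheme.{u}} {f : X ⟶ S} {Ω' : X.Modules} {d : OmegaSh.Der f Ω'} {r : ℕ}
  {D : Fin r → X.IdealSheafData}

/-- Coordinates of an étale chart are regular at every point. -/
theorem germ_mem_nonZeroDivisors {A : Type u} [CommRing A] {V : X.Opens} (hV : IsAffineOpen V) {n : ℕ}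
    (ψ : MvPolynomial (Fin n) A →+* Γ(X, V)) (hψ : ψ.Etale) (j : Fin n) (y : X) (hy : y ∈ V) :
    X.presheaf.germ V y hy (ψ (MvPolynomial.X j)) ∈ (X.presheaf.stalk y)⁰ := by
  letI := ψ.toAlgebra
  haveI : Algebra.Etale (MvPolynomial (Fin n) A) Γ(X, V) := hψ
  have hreg : IsSMulRegular Γ(X, V) (algebraMap (MvPolynomial (Fin n) A) Γ(X, V) (MvPolynomial.X j)) :=
    IsSMulRegular.of_flat (MvPolynomial.isRegular_X.left)
  have hmem : ψ (MvPolynomial.X j) ∈ (Γ(X, V))⁰ :=
    mem_nonZeroDivisors_iff_right.mpr fun z hz => hreg (show _ * z = _ * 0 by rw [mul_comm, mul_zero]; exact hz)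
  letI := X.presheaf.algebra_section_stalk (⟨y, hy⟩ : V)
  haveI := hV.isLocalization_stalk ⟨y, hy⟩
  exact IsLocalization.map_nonZeroDivisors_le (hV.primeIdealOf ⟨y, hy⟩).asIdeal.primeCompl (X.presheaf.stalk y)
    ⟨_, hmem, rfl⟩

/-- Every point has a logarithmic chart. -/
theorem hasCharts [Smooth f] (hd : OmegaSh.IsUniversal d) (hD : LogNCD.IsNCD D f) : HasCharts d D := by
  classical
  intro x W₀ hx₀
  obtain ⟨O, hO, hxO, -⟩ := exists_isAffineOpen_mem_and_subset (U := (⊤ : S.Opens)) (x := f x) trivial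
  obtain ⟨V, hle, n, ψ, e, hxV, hVW, hC, hψ, he, hi, hm⟩ :=
    LiftLib.NCDChart.exists_chart f D hD x W₀ hx₀ ⟨O, hO⟩ hxO
  have hfe : ψ.FormallyEtale := by
    letI := ψ.toAlgebra
    haveI : Algebra.Etale (MvPolynomial (Fin n) Γ(S, O)) Γ(X, V.1) := hψ
    exact (inferInstance : Algebra.FormallyEtale (MvPolynomial (Fin n) Γ(S, O)) Γ(X, V.1))
  have hv : IsFrame Ω' V.1 (fun j => d.app V.1 (ψ (MvPolynomial.X j))) :=
    EtaleFrame.isFrame_d_of_etale hd hO V.2 hle ψ (fun a => congr($hC a)) hfe
  let g : Fin r → Γ(X, V.1) := fun i => if h : x ∈ (D i).support then ψ (MvPolynomial.X (e ⟨i, h⟩)) else 1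
  have hreg : ∀ i y (hy : y ∈ V.1), X.presheaf.germ V.1 y hy (g i) ∈ (X.presheaf.stalk y)⁰ := fun i y hy => by
    by_cases h : x ∈ (D i).support
    · simp only [g, h, ↓reduceDIte]; exact germ_mem_nonZeroDivisors V.2 ψ hψ _ y hy
    · simp only [g, h, ↓reduceDIte, map_one]; exact one_mem _
  refine ⟨⟨V, g, fun i => ?_, hreg, fun y hy => ?_, fun y hy a w H i => ?_⟩, hxV, hVW⟩
  · by_cases h : x ∈ (D i).support
    · simp only [g, h, ↓reduceDIte]; exact hi ⟨i, h⟩
    · simp only [g, h, ↓reduceDIte, Ideal.span_singleton_one]; exact hm i h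
  · intro p q hpq
    rw [LocalizedModule.mkLinearMap_apply, LocalizedModule.mkLinearMap_apply, LocalizedModule.mk_eq] at hpq
    obtain ⟨c, hc⟩ := hpq
    rw [one_smul, one_smul] at hc
    obtain ⟨α, rfl⟩ := (hv.stalkComb_bijective y hy).2 p
    obtain ⟨β, rfl⟩ := (hv.stalkComb_bijective y hy).2 q
    refine congrArg _ (funext fun j => ?_)
    have h2 := congrFun ((hv.stalkComb_bijective y hy).1
      ((LinearMap.map_smul _ (c : X.presheaf.stalk y) α).trans
        (hc.trans (LinearMap.map_smul _ (c : X.presheaf.stalk y) β).symm))) j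
    exact (isRegular_iff_mem_nonZeroDivisors.mpr c.2).left h2
  · by_cases h : x ∈ (D i).support
    · obtain ⟨ω, rfl⟩ := (hv.stalkComb_bijective y hy).2 w
      let b : Fin r → Fin n → X.presheaf.stalk y := fun k =>
        if hk : x ∈ (D k).support then Pi.single (e ⟨k, hk⟩) 1 else 0
      have hb : ∀ k, germM Ω' V.1 y hy (d.app V.1 (g k)) =
          stalkComb Ω' (fun j => d.app V.1 (ψ (MvPolynomial.X j))) y hy (b k) := fun k => by
        by_cases hk : x ∈ (D k).support
        · simp only [g, b, hk, ↓reduceDIte]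
          exact ((Fintype.linearCombination_apply_single (X.presheaf.stalk y)
            (fun j => germM Ω' V.1 y hy (d.app V.1 (ψ (MvPolynomial.X j)))) (e ⟨k, hk⟩) 1).trans
            (one_smul (X.presheaf.stalk y) (germM Ω' V.1 y hy (d.app V.1 (ψ (MvPolynomial.X (e ⟨k, hk⟩))))))).symm
        · simp only [g, b, hk, ↓reduceDIte, map_zero]
          rw [show d.app V.1 (1 : Γ(X, V.1)) = 0 from PresheafOfModules.Derivation.d_one d (op V.1)]
          exact map_zero _
      simp only [hb, ← LinearMap.map_smul, ← map_sum, ← map_add] at H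
      have h2 := congrFun ((hv.stalkComb_bijective y hy).1 (H.trans (map_zero _).symm)) (e ⟨i, h⟩)
      simp only [Pi.add_apply, Finset.sum_apply, Pi.smul_apply, smul_eq_mul, Pi.zero_apply] at h2
      rw [Finset.sum_eq_single i (fun k _ hk => by
        by_cases hk' : x ∈ (D k).support
        · simp only [b, hk', ↓reduceDIte]
          rw [Pi.single_eq_of_ne (fun heq => hk (congrArg Subtype.val (he heq)).symm), mul_zero]
        · simp only [b, hk', ↓reduceDIte, Pi.zero_apply, mul_zero]) (fun h => absurd (Finset.mem_univ i) h)] at h2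
      simp only [b, h, ↓reduceDIte, Pi.single_eq_same, mul_one] at h2
      have hP : X.presheaf.germ V.1 y hy (∏ k ∈ Finset.univ.erase i, g k) ∈ (X.presheaf.stalk y)⁰ := by
        rw [map_prod]; exact Submonoid.prod_mem _ fun k _ => hreg k y hy
      rw [← Finset.prod_erase_mul _ _ (Finset.mem_univ i), map_mul] at h2
      refine ⟨-ω (e ⟨i, h⟩), (isRegular_iff_mem_nonZeroDivisors.mpr hP).left ?_⟩
      show _ * a i = _ * (-ω (e ⟨i, h⟩) * X.presheaf.germ V.1 y hy (g i))
      linear_combination h2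
    · exact ⟨a i, by simp only [g, h, ↓reduceDIte, map_one, mul_one]⟩

/-- A universal receptacle of a smooth morphism is quasi-coherent. -/
theorem isQuasicoherent_universal (hd : OmegaSh.IsUniversal d) : Ω'.IsQuasicoherent := by
  refine Groth.Agent.QCoh.isQuasicoherent_of_forall_exists _ fun x => ?_
  obtain ⟨U, hU, V, hV, hxV, -, e⟩ := Omega.Chart.exists_affine_pair f x (W := ⊤) (Set.mem_univ _)
  let := (f.appLE U V e).hom.toAlgebra
  obtain ⟨i⟩ := Omega.LocalStructure.exists_tilde_iso hd hU hV e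
  exact ⟨V, hV, hxV, Groth.Agent.QCoh.isQuasicoherent_of_iso i⟩

/-- The sheaf of logarithmic differentials exists. -/
theorem nonempty_logMod [Smooth f] (hd : OmegaSh.IsUniversal d) (hD : LogNCD.IsNCD D f) :
    Nonempty (LogNCD.LogMod d D) := by
  have hC := hasCharts hd hD
  haveI := isQuasicoherent_universal hd
  choose ρ hρ using exists_res hC
  refine ⟨{ L := obj hC, ι := inclΩ hC, res := ρ, mono := mono_inclΩ hC, res_ι := fun i => ?_,
            rule := fun U g hg => rule hC ρ hρ U g hg }⟩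
  ext U w
  refine sec_ext (N := ClSub.quotMod (D i)) fun y hy => ?_
  obtain ⟨C, hyC, hle⟩ := hC y U hy
  let σ : sec hC C.W.1 := (inclΩ hC).app C.W.1 (res Ω' hle w)
  have h1 : stalkLin (ρ i) y (germM (obj hC) C.W.1 y hyC σ) =
      germM (ClSub.quotMod (D i)) C.W.1 y hyC ((ClSub.toSubscheme (D i)).app C.W.1 (OmegaSh.strSect X C.W.1 (0 : Γ(X, C.W.1)))) :=
    resRel_unique hC i y _ (hρ i y _) ⟨C, hyC, σ, res Ω' hle w, 0, (exp_qF C _).symm, rfl, rfl⟩
  rw [map_zero, map_zero] at h1
  show germM (ClSub.quotMod (D i)) U y hy ((ρ i).app U ((inclΩ hC).app U w)) = germM (ClSub.quotMod (D i)) U y hy 0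
  rw [← stalkLin_germ (ρ i) U y hy, ← stalkLin_germ (inclΩ hC) U y hy, ← germM_res' Ω' hle y hyC w, stalkLin_germ]
  exact h1.trans ((map_zero _).trans (map_zero _).symm)

end Groth.Agent.Unram24.LogCharts
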