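import Groth.Agent.Unram24.LogRes

/-!
# The inclusion of logarithmic differentials of a subdivisor
-/

set_option autoImplicit false
set_option backward.isDefEq.respectTransparency.types false
set_option linter.style.haveILetI false

universe u

open CategoryTheory CategoryTheory.Limits AlgebraicGeometry Opposite TopologicalSpace

noncomputable section

namespace Groth.Agent.Unram24.LogSub

open Groth.Agent.PullStalk.Sky Groth.Agent.PullStalk.Exact Groth.Agent.Omega.Stalks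
  Groth.Agent.ExtFilt.Stalkwise Groth.Agent.QCoh Groth.Agent.Props.SubMod Groth.Agent.Props.SubSheaf
  Groth.Agent.Unram24.LogRes

variable {X S : Scheme.{u}} {f : X ⟶ S} {Ω' : X.Modules} {d : OmegaSh.Der f Ω'}

/-- `Ω¹(log D)` has no torsion for the product of the equations on stalks. -/
theorem torsionFree_stalk {r : ℕ} {D : Fin r → X.IdealSheafData} (Λ : LogNCD.LogMod d D) (U : X.affineOpens)
    (g : Fin r → Γ(X, U.1)) (hg : ∀ i, (D i).ideal U = Ideal.span {g i}) (y : X) (hy : y ∈ U.1)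
    (z : Λ.L.presheaf.stalk y) (hz : X.presheaf.germ U.1 y hy (∏ i, g i) • z = 0) : z = 0 := by
  obtain ⟨W, hyW, m, rfl⟩ := exists_germM_eq Λ.L y z
  have h1 : germM Λ.L (U.1 ⊓ W) y ⟨hy, hyW⟩
      (X.presheaf.map (homOfLE (inf_le_left : U.1 ⊓ W ≤ U.1)).op (∏ i, g i) • res Λ.L inf_le_right m) = 0 := by
    rw [germM_smul, germM_res', X.presheaf.germ_res_apply]
    exact hz
  obtain ⟨W', hyW', i₁, i₂, hi⟩ := Λ.L.presheaf.germ_eq y (show y ∈ U.1 ⊓ W from ⟨hy, hyW⟩)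
    (show y ∈ U.1 ⊓ W from ⟨hy, hyW⟩) _ 0
    (h1.trans (map_zero (Λ.L.presheaf.germ (U.1 ⊓ W) y ⟨hy, hyW⟩).hom).symm)
  obtain ⟨U', hU', hyU', hle⟩ := exists_isAffineOpen_mem_and_subset (U := W') (x := y) hyW'
  have hle' : U' ≤ U.1 ⊓ W := le_trans hle (leOfHom i₁)
  have hU'U : U' ≤ U.1 := hle'.trans inf_le_left
  have hU'W : U' ≤ W := hle'.trans inf_le_right
  let g' : Fin r → Γ(X, U') := fun i => X.presheaf.map (homOfLE hU'U).op (g i)
  obtain ⟨htf, -⟩ := Λ.rule ⟨U', hU'⟩ g' fun i => by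
    rw [← (D i).map_ideal (U := ⟨U', hU'⟩) (V := U) hU'U, hg i, Ideal.map_span, Set.image_singleton]
    rfl
  have h2 : res Λ.L hU'W m = 0 := by
    refine htf _ ?_
    rw [← map_prod]
    have h3 := congrArg (res Λ.L (hle : U' ≤ W')) hi
    rw [map_zero] at h3
    have h4 : res Λ.L (hle : U' ≤ W') (Λ.L.presheaf.map i₁.op (X.presheaf.map (homOfLE (inf_le_left : U.1 ⊓ W ≤ U.1)).op (∏ i, g i) •
        res Λ.L inf_le_right m)) = 0 := h3.trans (map_zero _)
    rw [show i₁ = homOfLE (leOfHom i₁) from rfl] at h4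
    change res Λ.L (hle : U' ≤ W') (res Λ.L (leOfHom i₁) _) = 0 at h4
    rw [res_res, res_smul, res_res] at h4
    refine Eq.trans ?_ h4
    congr 1
    rw [← ConcreteCategory.comp_apply, ← Functor.map_comp]
    rfl
  rw [← germM_res' Λ.L hU'W y hyU' m, h2]
  exact map_zero _

variable {r : ℕ} {D : Fin (r + 1) → X.IdealSheafData} (i : Fin (r + 1))
  (Λ : LogNCD.LogMod d D) (Λ' : LogNCD.LogMod d (D ∘ i.succAbove))

/-- Two stalk elements are related when they agree away from the divisor. -/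
def Rel (y : X) (t : Λ'.L.presheaf.stalk y) (s : Λ.L.presheaf.stalk y) : Prop :=
  ∀ (c : X.presheaf.stalk y) (w : Ω'.presheaf.stalk y),
    c • t = stalkLin Λ'.ι y w → c • s = stalkLin Λ.ι y w

theorem prod_eq (U : X.Opens) (g : Fin (r + 1) → Γ(X, U)) :
    ∏ j, g j = g i * ∏ j, g (i.succAbove j) := Fin.prod_univ_succAbove g i

theorem rel_of_witness (U : X.affineOpens) (g : Fin (r + 1) → Γ(X, U.1))
    (hg : ∀ j, (D j).ideal U = Ideal.span {g j}) (y : X) (hy : y ∈ U.1) {t : Λ'.L.presheaf.stalk y}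
    {s : Λ.L.presheaf.stalk y} (w₀ : Ω'.presheaf.stalk y)
    (ht : X.presheaf.germ U.1 y hy (∏ j, g (i.succAbove j)) • t = stalkLin Λ'.ι y w₀)
    (hs : X.presheaf.germ U.1 y hy (∏ j, g (i.succAbove j)) • s = stalkLin Λ.ι y w₀) : Rel i Λ Λ' y t s := by
  intro c w hc
  let G := X.presheaf.germ U.1 y hy (∏ j, g (i.succAbove j))
  haveI := Λ'.mono
  have h1 : c • w₀ = G • w := stalkLin_injective_of_mono Λ'.ι y (by
    rw [map_smul, map_smul, ← ht, ← hc, smul_comm])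
  have h2 : G • (c • s - stalkLin Λ.ι y w) = 0 := by
    rw [smul_sub, smul_comm, hs, ← map_smul, ← map_smul, h1, sub_self]
  refine sub_eq_zero.mp (torsionFree_stalk Λ U g hg y hy _ ?_)
  rw [prod_eq i U.1 g, map_mul, mul_smul, h2, smul_zero]

theorem rel_unique (U : X.affineOpens) (g : Fin (r + 1) → Γ(X, U.1))
    (hg : ∀ j, (D j).ideal U = Ideal.span {g j}) (y : X) (hy : y ∈ U.1) {t : Λ'.L.presheaf.stalk y}
    {s s' : Λ.L.presheaf.stalk y} (w₀ : Ω'.presheaf.stalk y)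
    (ht : X.presheaf.germ U.1 y hy (∏ j, g (i.succAbove j)) • t = stalkLin Λ'.ι y w₀)
    (hs : Rel i Λ Λ' y t s) (hs' : Rel i Λ Λ' y t s') : s = s' := by
  refine sub_eq_zero.mp (torsionFree_stalk Λ U g hg y hy _ ?_)
  rw [prod_eq i U.1 g, map_mul, mul_smul, smul_sub, hs _ _ ht, hs' _ _ ht, sub_self, smul_zero]

/-- On a principal chart a section of `Ω¹(log D')` has a related section of `Ω¹(log D)`. -/
theorem exists_section (U : X.affineOpens) (g : Fin (r + 1) → Γ(X, U.1))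
    (hg : ∀ j, (D j).ideal U = Ideal.span {g j}) (m : Γ(Λ'.L, U.1)) :
    ∃ (n : Γ(Λ.L, U.1)) (w₀ : Γ(Ω', U.1)),
      (∏ j, g (i.succAbove j)) • m = Λ'.ι.app U.1 w₀ ∧ (∏ j, g (i.succAbove j)) • n = Λ.ι.app U.1 w₀ := by
  classical
  obtain ⟨dl, h1, -, -, -⟩ := exists_expansion Λ U g hg
  obtain ⟨dl', h1', h2', -, -⟩ := exists_expansion Λ' U (fun j => g (i.succAbove j)) fun j => hg (i.succAbove j)
  obtain ⟨w, a, rfl⟩ := h2' m
  refine ⟨Λ.ι.app U.1 w + ∑ j, a j • dl (i.succAbove j),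
    (∏ j, g (i.succAbove j)) • w + ∑ j, (a j * ∏ k ∈ Finset.univ.erase j, g (i.succAbove k)) •
      d.app U.1 (g (i.succAbove j)), ?_, ?_⟩ <;>
  · rw [smul_add, Finset.smul_sum, map_add, map_sum, ← Scheme.Modules.Hom.app_smul]
    refine congrArg _ (Finset.sum_congr rfl fun j _ => ?_)
    rw [Scheme.Modules.Hom.app_smul]
    first
      | rw [← h1' j, smul_smul, smul_smul, ← Finset.prod_erase_mul _ _ (Finset.mem_univ j)]
      | rw [← h1 (i.succAbove j), smul_smul, smul_smul, ← Finset.prod_erase_mul _ _ (Finset.mem_univ j)]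
    congr 1
    ring

theorem germ_related (U : X.affineOpens) (g : Fin (r + 1) → Γ(X, U.1)) (m : Γ(Λ'.L, U.1)) (w₀ : Γ(Ω', U.1))
    (h : (∏ j, g (i.succAbove j)) • m = Λ'.ι.app U.1 w₀) (y : X) (hy : y ∈ U.1) :
    X.presheaf.germ U.1 y hy (∏ j, g (i.succAbove j)) • germM Λ'.L U.1 y hy m =
      stalkLin Λ'.ι y (germM Ω' U.1 y hy w₀) := by
  rw [← germM_smul, h, stalkLin_germ]

theorem existsUnique_rel (hD : LogNCD.IsNCD D f) (y : X) (t : Λ'.L.presheaf.stalk y) :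
    ∃! s, Rel i Λ Λ' y t s := by
  obtain ⟨W, hyW, m, rfl⟩ := exists_germM_eq Λ'.L y t
  obtain ⟨U, g, hyU, hUW, hg⟩ := exists_principal hD y W hyW
  rw [← germM_res' Λ'.L hUW y hyU m]
  obtain ⟨n, w₀, hm, hn⟩ := exists_section i Λ Λ' U g hg (res Λ'.L hUW m)
  have ht := germ_related i Λ' U g _ w₀ hm y hyU
  have hR : Rel i Λ Λ' y _ (germM Λ.L U.1 y hyU n) :=
    rel_of_witness i Λ Λ' U g hg y hyU _ ht (by rw [← germM_smul, hn, stalkLin_germ])
  exact ⟨_, hR, fun s hs => rel_unique i Λ Λ' U g hg y hyU _ ht hs hR⟩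

include Λ in
theorem exists_witness (hD : LogNCD.IsNCD D f) (y : X) (t : Λ'.L.presheaf.stalk y) :
    ∃ (U : X.affineOpens) (g : Fin (r + 1) → Γ(X, U.1)) (hy : y ∈ U.1) (w₀ : Ω'.presheaf.stalk y),
      (∀ j, (D j).ideal U = Ideal.span {g j}) ∧
      X.presheaf.germ U.1 y hy (∏ j, g (i.succAbove j)) • t = stalkLin Λ'.ι y w₀ := by
  obtain ⟨W, hyW, m, rfl⟩ := exists_germM_eq Λ'.L y t
  obtain ⟨U, g, hyU, hUW, hg⟩ := exists_principal hD y W hyW
  rw [← germM_res' Λ'.L hUW y hyU m]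
  obtain ⟨n, w₀, hm, hn⟩ := exists_section i Λ Λ' U g hg (res Λ'.L hUW m)
  exact ⟨U, g, hyU, _, hg, germ_related i Λ' U g _ w₀ hm y hyU⟩

/-- The inclusion exists. -/
theorem exists_isSubLog (hD : LogNCD.IsNCD D f) : ∃ κ : Λ'.L ⟶ Λ.L, LogNCD.IsSubLog Λ' Λ κ := by
  choose φ₀ hφ₀ huniq using existsUnique_rel i Λ Λ' hD
  let φ : ∀ y, Λ'.L.presheaf.stalk y →ₗ[X.presheaf.stalk y] Λ.L.presheaf.stalk y := fun y =>
    { toFun := φ₀ y
      map_add' := fun t t' => by
        obtain ⟨W, hW, m, rfl⟩ := exists_germM_eq Λ'.L y t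
        obtain ⟨W', hW', m', rfl⟩ := exists_germM_eq Λ'.L y t'
        obtain ⟨U, g, hy, hle, hg⟩ := exists_principal hD y (W ⊓ W') ⟨hW, hW'⟩
        rw [← germM_res' Λ'.L (hle.trans inf_le_left) y hy m, ← germM_res' Λ'.L (hle.trans inf_le_right) y hy m']
        obtain ⟨n, w, hm, hn⟩ := exists_section i Λ Λ' U g hg (res Λ'.L (hle.trans inf_le_left) m)
        obtain ⟨n', w', hm', hn'⟩ := exists_section i Λ Λ' U g hg (res Λ'.L (hle.trans inf_le_right) m')
        have ht := germ_related i Λ' U g _ w hm y hy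
        have ht' := germ_related i Λ' U g _ w' hm' y hy
        refine (huniq y _ _ (rel_of_witness i Λ Λ' U g hg y hy (germM Ω' U.1 y hy w + germM Ω' U.1 y hy w') ?_ ?_)).symm
        · rw [smul_add, map_add, ht, ht']
        · rw [smul_add, map_add, ← hφ₀ y _ _ _ ht, ← hφ₀ y _ _ _ ht']
      map_smul' := fun a t => by
        obtain ⟨U, g, hy, w, hg, hw⟩ := exists_witness i Λ Λ' hD y t
        refine (huniq y _ _ ?_).symm
        refine rel_of_witness i Λ Λ' U g hg y hy (a • w) ?_ ?_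
        · rw [map_smul, ← hw, smul_comm]
        · rw [RingHom.id_apply, map_smul, ← hφ₀ y t _ _ hw, smul_comm] }
  have hloc : ∀ x t, Loc φ x t := by
    intro x t
    obtain ⟨W, hxW, m, rfl⟩ := exists_germM_eq Λ'.L x t
    obtain ⟨U, g, hxU, hUW, hg⟩ := exists_principal hD x W hxW
    obtain ⟨n, w₀, hm, hn⟩ := exists_section i Λ Λ' U g hg (res Λ'.L hUW m)
    refine ⟨U.1, hxU, res Λ'.L hUW m, n, germM_res' Λ'.L hUW x hxU m, fun y hy => ?_⟩
    exact (huniq y _ _ (rel_of_witness i Λ Λ' U g hg y hy _ (germ_related i Λ' U g _ w₀ hm y hy)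
      (by rw [← germM_smul, hn, stalkLin_germ]))).symm
  obtain ⟨κ, hκ⟩ := exists_hom hloc
  refine ⟨κ, hom_ext_stalk fun y => LinearMap.ext fun w => ?_⟩
  rw [stalkLin_comp, hκ]
  refine (huniq y _ _ fun c v hc => ?_).symm
  haveI := Λ'.mono
  rw [← map_smul] at hc ⊢
  rw [stalkLin_injective_of_mono Λ'.ι y hc]

/-- The sequence of the inclusion and the residue is short exact. -/
theorem shortExact (hD : LogNCD.IsNCD D f) (κ : Λ'.L ⟶ Λ.L) (hκ : LogNCD.IsSubLog Λ' Λ κ)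
    (h : κ ≫ Λ.res i = 0) : (ShortComplex.mk κ (Λ.res i) h).ShortExact := by
  classical
  have hι : ∀ y w, stalkLin κ y (stalkLin Λ'.ι y w) = stalkLin Λ.ι y w := fun y w => by
    rw [← stalkLin_comp, hκ]
  refine { mono_f := ?mono, epi_g := ?epi, exact := exact_of_stalk _ fun x t ht => ?exact }
  case mono =>
    refine mono_of_stalk fun y => (injective_iff_map_eq_zero _).mpr fun t ht => ?_
    obtain ⟨U, g, hy, w, hg, hw⟩ := exists_witness i Λ Λ' hD y t
    haveI := Λ.mono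
    have hw0 : w = 0 := stalkLin_injective_of_mono Λ.ι y (by
      rw [map_zero, ← hι, ← hw, map_smul, ht, smul_zero])
    rw [hw0, map_zero] at hw
    exact torsionFree_stalk Λ' U (fun j => g (i.succAbove j)) (fun j => hg (i.succAbove j)) y hy t hw
  case epi =>
    refine epi_of_stalk fun x s => ?_
    obtain ⟨U, g, hxU, -, hg⟩ := exists_principal hD x ⊤ trivial
    obtain ⟨dl, -, -, h3, -⟩ := exists_expansion Λ U g hg
    obtain ⟨b, rfl⟩ := exists_smul_one (D i) U.1 x hxU s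
    refine ⟨b • germM Λ.L U.1 x hxU (dl i), ?_⟩
    rw [LinearMap.map_smul, stalkLin_germ, h3 i]
  case exact =>
    obtain ⟨U, g, hxU, m, hg, rfl, hm⟩ := exists_lift_of_res_eq_zero hD Λ {i} x t (fun j hj => by
      rw [Finset.mem_singleton.mp hj]; exact ht)
    obtain ⟨dl, h1, h2, h3, h4⟩ := exists_expansion Λ U g hg
    obtain ⟨dl', h1', -, -, -⟩ := exists_expansion Λ' U (fun j => g (i.succAbove j)) fun j => hg (i.succAbove j)
    obtain ⟨w, a, rfl⟩ := h2 m
    obtain ⟨c, hc⟩ : ∃ c, c * g i = a i := by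
      rw [← Ideal.mem_span_singleton', ← hg i, ← LogRes.toSubscheme_eq_zero_iff, ← res_expansion Λ U.1 h3 h4 w a i]
      exact hm i (Finset.mem_singleton_self i)
    have hdl : ∀ j, κ.app U.1 (dl' j) = dl (i.succAbove j) := fun j => by
      refine sec_ext fun y hy => sub_eq_zero.mp (torsionFree_stalk Λ U g hg y hy _ ?_)
      rw [Fin.prod_univ_succAbove g (i.succAbove j), map_mul, mul_comm, mul_smul, smul_sub,
        ← germM_smul, ← germM_smul, ← Scheme.Modules.Hom.app_smul, h1' j, h1 (i.succAbove j)]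
      have : κ.app U.1 (Λ'.ι.app U.1 (d.app U.1 (g (i.succAbove j)))) = Λ.ι.app U.1 (d.app U.1 (g (i.succAbove j))) :=
        congrArg (fun φ : Ω' ⟶ Λ.L => φ.app U.1 (d.app U.1 (g (i.succAbove j)))) hκ
      rw [this, sub_self, smul_zero]
    refine ⟨germM Λ'.L U.1 x hxU (Λ'.ι.app U.1 (w + c • d.app U.1 (g i)) + ∑ j, a (i.succAbove j) • dl' j),
      (stalkLin_germ _ _ _ _ _).trans (congrArg _ ?_)⟩
    rw [map_add, map_sum, Fin.sum_univ_succAbove _ i]
    have e : κ.app U.1 (Λ'.ι.app U.1 (w + c • d.app U.1 (g i))) = Λ.ι.app U.1 w + a i • dl i := by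
      refine (congrArg (fun φ : Ω' ⟶ Λ.L => φ.app U.1 (w + c • d.app U.1 (g i))) hκ).trans ?_
      show Λ.ι.app U.1 _ = _
      rw [map_add, Scheme.Modules.Hom.app_smul, ← h1 i, smul_smul, hc]
    rw [e, ← add_assoc]
    refine congrArg _ (Finset.sum_congr rfl fun j _ => ?_)
    rw [Scheme.Modules.Hom.app_smul, hdl]

end Groth.Agent.Unram24.LogSub
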