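import Groth.Agent.S2820
import Groth.Agent.Omega.LocalFibre
import Groth.Agent.EtStruct.Tower
import Groth.Agent.CAlg48.SepGen
import Groth.Agent.FieldSep.SepGen
import Mathlib

/-!
# Coordinates adapted to a prime with separable residue field; smoothness of a Néron chart

* `finrank_kaehler_le_trdeg`: separable (geometrically reduced) f.g. field extension: `dim Ω ≤ trdeg`.
* `exists_adapted_coords`: `R → A` smooth at `p` over a DVR, `κ(p)` geometrically reduced over the residue
  field: étale coordinates near `p`, the first ones generating `p` with the uniformizer.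
* `formallySmooth_chart`: the algebra `A_s[g/π]` is smooth over `R`.
-/

set_option autoImplicit false
set_option linter.style.haveILetI false

universe u

open TensorProduct IsLocalRing
open Groth.Agent.Omega.LocalFibre

namespace Groth.Agent.Unram24.Neron

theorem finrank_kaehler_le_trdeg (k K : Type u) [Field k] [Field K] [Algebra k K]
    [Algebra.EssFiniteType k K] [Algebra.IsGeometricallyReduced k K] :
    (Module.finrank K (KaehlerDifferential k K) : Cardinal) ≤ Algebra.trdeg k K := by
  obtain ⟨s, hs, H⟩ := CAlg48.SepGen.exists_separating k K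
  haveI : Algebra.IsSeparable (IntermediateField.adjoin k (Set.range ((↑) : s → K))) K := by
    convert! H <;> simp
  obtain ⟨b, -⟩ := FieldSep.SepGen.exists_basis hs.1
  rw [Module.finrank_eq_card_basis b, ← Cardinal.mk_fintype, hs.cardinalMk_eq_trdeg]

/-- Elements whose differentials span are algebraically independent, in a separable extension. -/
theorem algebraicIndependent_of_span (k K : Type u) [Field k] [Field K] [Algebra k K]
    [Algebra.EssFiniteType k K] [Algebra.IsGeometricallyReduced k K] (x : Fin (Module.finrank K (KaehlerDifferential k K)) → K)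
    (h : Submodule.span K (Set.range fun i => KaehlerDifferential.D k K (x i)) = ⊤) :
    AlgebraicIndependent k x := by
  haveI : Algebra.FormallyUnramified (IntermediateField.adjoin k (Set.range x)) K := by
    refine ⟨subsingleton_of_forall_eq 0 fun ω => ?_⟩
    obtain ⟨η, rfl⟩ := KaehlerDifferential.map_surjective k (IntermediateField.adjoin k (Set.range x)) K ω
    have hη : η ∈ Submodule.span K (Set.range fun i => KaehlerDifferential.D k K (x i)) := h ▸ Submodule.mem_top
    induction hη using Submodule.span_induction with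
    | mem y hy =>
      obtain ⟨i, rfl⟩ := hy
      rw [KaehlerDifferential.map_D]
      exact (KaehlerDifferential.D (IntermediateField.adjoin k (Set.range x)) K).map_algebraMap
        ⟨x i, IntermediateField.subset_adjoin _ _ ⟨i, rfl⟩⟩
    | zero => exact map_zero _
    | add y z _ _ hy hz => rw [map_add, hy, hz, add_zero]
    | smul c y _ hy => rw [map_smul, hy, smul_zero]
  haveI : Algebra.EssFiniteType (IntermediateField.adjoin k (Set.range x)) K := .of_comp k _ K
  haveI : Module.Finite (IntermediateField.adjoin k (Set.range x)) K :=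
    Algebra.FormallyUnramified.finite_of_free _ K
  haveI : Algebra.IsAlgebraic (IntermediateField.adjoin k (Set.range x)) K := Algebra.IsAlgebraic.of_finite _ _
  exact S2820.algebraicIndependent_of_trdeg x (finrank_kaehler_le_trdeg k K)

section Fibre

variable {R L : Type u} [CommRing R] [CommRing L] [IsLocalRing L] [Algebra R L]

theorem surjective_mapBaseChange_residueField :
    Function.Surjective (KaehlerDifferential.mapBaseChange R L (ResidueField L)) := fun x =>
  ((KaehlerDifferential.exact_mapBaseChange_map R L (ResidueField L)) x).mp (Subsingleton.elim _ _)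

/-- Differentials of elements of the maximal ideal fill the kernel to the residue field. -/
theorem exists_mem_dF_eq (v : ResidueField L ⊗[L] KaehlerDifferential R L)
    (hv : KaehlerDifferential.mapBaseChange R L (ResidueField L) v = 0) :
    ∃ x ∈ maximalIdeal L, dF R x = v := by
  obtain ⟨c, hc⟩ := ((KaehlerDifferential.exact_kerCotangentToTensor_mapBaseChange R L (ResidueField L)
    residue_surjective) v).mp hv
  obtain ⟨⟨x, hx⟩, rfl⟩ := Ideal.toCotangent_surjective _ c
  exact ⟨x, (residue_eq_zero_iff x).mp hx, hc⟩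

/-- Independent differentials spanning the kernel, followed by lifts of generators downstairs, form
a basis. -/
theorem exists_adapted [Module.Finite L (KaehlerDifferential R L)] :
    ∃ (c : ℕ) (g : Fin c → L), (∀ i, g i ∈ maximalIdeal L) ∧
      ∀ t : Fin (Module.finrank (ResidueField L) (KaehlerDifferential R (ResidueField L))) → L,
        Submodule.span (ResidueField L)
            (Set.range fun i => KaehlerDifferential.D R (ResidueField L) (residue L (t i))) = ⊤ →
        Submodule.span (ResidueField L) (Set.range fun i => dF R (Sum.elim g t i)) = ⊤ ∧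
        c + Module.finrank (ResidueField L) (KaehlerDifferential R (ResidueField L)) =
          Module.finrank (ResidueField L) (ResidueField L ⊗[L] KaehlerDifferential R L) := by
  let l := KaehlerDifferential.mapBaseChange R L (ResidueField L)
  haveI : Module.Free (ResidueField L) (LinearMap.ker l) :=
    Module.Free.of_divisionRing (ResidueField L) (LinearMap.ker l)
  let b := Module.finBasis (ResidueField L) (LinearMap.ker l)
  choose g hg hgb using fun i => exists_mem_dF_eq (R := R) (L := L) (b i).1 (b i).2
  refine ⟨_, g, hg, fun t ht => ⟨?_, ?_⟩⟩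
  · set U := Submodule.span (ResidueField L) (Set.range fun i => dF R (Sum.elim g t i))
    have hker : LinearMap.ker l ≤ U := by
      intro v hv
      have h1 : (⟨v, hv⟩ : LinearMap.ker l) ∈ Submodule.span (ResidueField L) (Set.range b) := b.span_eq ▸ Submodule.mem_top
      have h2 : v ∈ (Submodule.span (ResidueField L) (Set.range b)).map (LinearMap.ker l).subtype := ⟨_, h1, rfl⟩
      rw [Submodule.map_span, ← Set.range_comp] at h2
      refine Submodule.span_mono ?_ h2
      rintro _ ⟨i, rfl⟩
      exact ⟨Sum.inl i, hgb i⟩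
    have hmap : U.map l = ⊤ := by
      refine top_le_iff.mp (ht.ge.trans (Submodule.span_le.mpr ?_))
      rintro _ ⟨i, rfl⟩
      exact ⟨_, Submodule.subset_span ⟨Sum.inr i, rfl⟩, mapBaseChange_dF (t i)⟩
    refine top_le_iff.mp fun v _ => ?_
    obtain ⟨w, hw, hwv⟩ := hmap.ge (Submodule.mem_top (x := l v))
    rw [show v = (v - w) + w from (sub_add_cancel v w).symm]
    exact add_mem (hker (by rw [LinearMap.mem_ker, map_sub, hwv, sub_self])) hw
  · rw [← LinearMap.finrank_range_add_finrank_ker l,
      LinearMap.range_eq_top.mpr surjective_mapBaseChange_residueField, finrank_top, add_comm]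

/-- Formally étale over coordinates with spanning differentials, as many as the rank. -/
theorem formallyEtale_of_span {σ : Type} [Fintype σ] [Algebra.FormallySmooth R L]
    [Module.Finite L (KaehlerDifferential R L)]
    [Algebra (MvPolynomial σ R) L] [IsScalarTower R (MvPolynomial σ R) L]
    (h : Submodule.span (ResidueField L)
      (Set.range fun i => dF R (algebraMap (MvPolynomial σ R) L (.X i))) = ⊤)
    (hcard : Fintype.card σ = Module.finrank (ResidueField L) (ResidueField L ⊗[L] KaehlerDifferential R L)) :
    Algebra.FormallyEtale (MvPolynomial σ R) L := by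
  haveI : Module.Free L (KaehlerDifferential R L) := Module.free_of_flat_of_isLocalRing
  rw [Module.finrank_baseChange] at hcard
  rw [EtStruct.formallyEtale_iff_bijective R (MvPolynomial σ R) L]
  let bp := (KaehlerDifferential.mvPolynomialBasis R σ).baseChange L
  have hsurj : Function.Surjective (KaehlerDifferential.mapBaseChange R (MvPolynomial σ R) L) := by
    rw [← LinearMap.range_eq_top, ← top_le_iff, ← span_eq_top _ h, Submodule.span_le]
    rintro _ ⟨i, rfl⟩
    refine ⟨(1 : L) ⊗ₜ KaehlerDifferential.D R (MvPolynomial σ R) (.X i), ?_⟩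
    rw [KaehlerDifferential.mapBaseChange_tmul, KaehlerDifferential.map_D, one_smul]
  haveI := Module.Free.of_basis bp
  haveI := Module.Finite.of_basis bp
  let e : KaehlerDifferential R L ≃ₗ[L] L ⊗[MvPolynomial σ R] KaehlerDifferential R (MvPolynomial σ R) :=
    LinearEquiv.ofFinrankEq _ _ (by rw [← hcard, Module.finrank_eq_card_basis bp])
  have hinj := OrzechProperty.injective_of_surjective_endomorphism
    (e.toLinearMap.comp (KaehlerDifferential.mapBaseChange R (MvPolynomial σ R) L))
    (e.surjective.comp hsurj)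
  exact ⟨fun x y hxy => hinj (congrArg e hxy), hsurj⟩

end Fibre

section DVR

variable (R : Type u) [CommRing R] [IsDomain R] [IsDiscreteValuationRing R] {A : Type u} [CommRing A]
  [Algebra R A] [Algebra.FiniteType R A]

/-- Étale coordinates adapted to `p`. -/
theorem exists_adapted_coords (π : R) (hπ : maximalIdeal R = Ideal.span {π}) (p : Ideal A) [p.IsPrime]
    (hp : p.comap (algebraMap R A) = maximalIdeal R) (hsm : Algebra.IsSmoothAt R p)
    [Algebra (ResidueField R) p.ResidueField] [IsScalarTower R (ResidueField R) p.ResidueField]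
    (hgr : Algebra.IsGeometricallyReduced (ResidueField R) p.ResidueField) :
    ∃ (c e : ℕ) (b : Fin c ⊕ Fin e → A) (s : A), s ∉ p ∧ (∀ i, b (Sum.inl i) ∈ p) ∧
      (∀ x ∈ p, s * x ∈ Ideal.span (insert (algebraMap R A π) (Set.range fun i => b (Sum.inl i)))) ∧
      (letI := (MvPolynomial.aeval b : MvPolynomial (Fin c ⊕ Fin e) R →ₐ[R] A).toRingHom.toAlgebra
       Algebra.Etale (MvPolynomial (Fin c ⊕ Fin e) R) (Localization.Away s)) := by
  classical
  let L := Localization.AtPrime p
  haveI : Algebra.FormallySmooth R L := hsm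
  haveI : Algebra.EssFiniteType A L := .of_isLocalization _ p.primeCompl
  haveI : Algebra.EssFiniteType R L := .comp R A L
  haveI : IsNoetherianRing A := Algebra.FiniteType.isNoetherianRing R A
  haveI : Module.Finite L (KaehlerDifferential R L) := inferInstance
  haveI : Algebra.EssFiniteType R p.ResidueField := .comp R L _
  haveI : Algebra.EssFiniteType (ResidueField R) p.ResidueField := .of_comp R _ _
  obtain ⟨c, g, hg, hgt⟩ := exists_adapted (R := R) (L := L)
  -- generators downstairs, from `A`
  let T : Set (KaehlerDifferential R p.ResidueField) :=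
    Set.range fun a : A => KaehlerDifferential.D R p.ResidueField (algebraMap A p.ResidueField a)
  have hT : Submodule.span p.ResidueField T = ⊤ := by
    rw [← top_le_iff, ← KaehlerDifferential.span_range_derivation, Submodule.span_le]
    rintro _ ⟨x, rfl⟩
    obtain ⟨y, z, -, rfl⟩ := IsFractionRing.div_surjective (A := A ⧸ p) x
    obtain ⟨y, rfl⟩ := Ideal.Quotient.mk_surjective y
    obtain ⟨z, rfl⟩ := Ideal.Quotient.mk_surjective z
    rw [Derivation.leibniz_div]
    refine Submodule.smul_mem _ _ (Submodule.sub_mem _ ?_ ?_) <;>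
      exact Submodule.smul_mem _ _ (Submodule.subset_span ⟨_, rfl⟩)
  obtain ⟨f, hf, hfspan, -⟩ := Submodule.exists_fun_fin_finrank_span_eq p.ResidueField T
  choose t₀ ht₀ using hf
  have hfin : Module.finrank p.ResidueField (Submodule.span p.ResidueField T) =
      Module.finrank p.ResidueField (KaehlerDifferential R p.ResidueField) := by rw [hT, finrank_top]
  let t : Fin (Module.finrank p.ResidueField (KaehlerDifferential R p.ResidueField)) → A :=
    fun i => t₀ (Fin.cast hfin.symm i)
  have ht : Submodule.span (ResidueField L) (Set.range fun i =>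
      KaehlerDifferential.D R (ResidueField L) (residue L (algebraMap A L (t i)))) = ⊤ := by
    rw [← top_le_iff]
    refine (hT.ge.trans hfspan.ge).trans (Submodule.span_mono ?_)
    rintro _ ⟨i, rfl⟩
    refine ⟨Fin.cast hfin i, ?_⟩
    rw [← ht₀ i]
    show KaehlerDifferential.D R p.ResidueField (algebraMap A p.ResidueField (t₀ _)) = _
    simp [t]
  obtain ⟨hspan, hcard⟩ := hgt (fun i => algebraMap A L (t i)) ht
  choose g₀ w hgw using fun i => IsLocalization.exists_mk'_eq p.primeCompl (g i)
  have hgw' : ∀ i, algebraMap A L (g₀ i) = algebraMap A L (w i) * g i := fun i => by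
    rw [← hgw i, IsLocalization.mk'_spec']
  let e := Module.finrank p.ResidueField (KaehlerDifferential R p.ResidueField)
  let b : Fin c ⊕ Fin e → A := Sum.elim g₀ t
  have hg₀ : ∀ i, g₀ i ∈ p := fun i => by
    have : algebraMap A L (g₀ i) ∈ maximalIdeal L := (hgw' i) ▸ Ideal.mul_mem_left _ _ (hg i)
    exact (IsLocalization.AtPrime.to_map_mem_maximal_iff L p _).mp this
  letI := (MvPolynomial.aeval b : MvPolynomial (Fin c ⊕ Fin e) R →ₐ[R] A).toRingHom.toAlgebra
  haveI : IsScalarTower R (MvPolynomial (Fin c ⊕ Fin e) R) A :=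
    .of_algebraMap_eq fun a => ((MvPolynomial.aeval b).commutes a).symm
  have hX : ∀ i, algebraMap (MvPolynomial (Fin c ⊕ Fin e) R) L (.X i) = algebraMap A L (b i) := fun i => by
    rw [IsScalarTower.algebraMap_apply _ A L]
    exact congrArg _ (MvPolynomial.aeval_X b i)
  haveI hfet : Algebra.FormallyEtale (MvPolynomial (Fin c ⊕ Fin e) R) L := by
    refine formallyEtale_of_span ?_ (by rw [Fintype.card_sum, Fintype.card_fin, Fintype.card_fin]; exact hcard)
    rw [← top_le_iff, ← hspan, Submodule.span_le]
    rintro _ ⟨i | i, rfl⟩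
    · have hmem : dF R (algebraMap A L (g₀ i)) ∈ Submodule.span (ResidueField L)
          (Set.range fun j => dF R (algebraMap (MvPolynomial (Fin c ⊕ Fin e) R) L (.X j))) :=
        Submodule.subset_span ⟨Sum.inl i, by simp [hX, b]⟩
      have hu : residue L (algebraMap A L (w i)) ≠ 0 :=
        (residue_ne_zero_iff_isUnit _).mpr (IsLocalization.map_units L (w i))
      have := Submodule.smul_mem _ (residue L (algebraMap A L (w i)))⁻¹ hmem
      rwa [hgw' i, dF_mul_of_mem _ (hg i), inv_smul_smul₀ hu] at this
    · exact Submodule.subset_span ⟨Sum.inr i, by simp [hX, b]⟩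
  -- the maximal ideal
  haveI : Algebra.FiniteType (MvPolynomial (Fin c ⊕ Fin e) R) A :=
    Algebra.FiniteType.of_restrictScalars_finiteType R _ _
  haveI : Algebra.IsUnramifiedAt (MvPolynomial (Fin c ⊕ Fin e) R) p :=
    show Algebra.FormallyUnramified _ L from inferInstance
  let P := p.under (MvPolynomial (Fin c ⊕ Fin e) R)
  haveI : p.LiesOver P := ⟨rfl⟩
  letI := Localization.AtPrime.algebraOfLiesOver P p
  have hmax := ((Algebra.isUnramifiedAt_iff_map_eq _ P p).mp ‹_›).2
  have hind : AlgebraicIndependent (ResidueField R) fun i => algebraMap A p.ResidueField (t i) := by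
    have hbij : Module.finrank p.ResidueField (KaehlerDifferential R p.ResidueField) =
        Module.finrank p.ResidueField (KaehlerDifferential (ResidueField R) p.ResidueField) := by
      refine (LinearEquiv.ofBijective
        (KaehlerDifferential.map R (ResidueField R) p.ResidueField p.ResidueField)
        ⟨?_, KaehlerDifferential.map_surjective R (ResidueField R) p.ResidueField⟩).finrank_eq
      rw [injective_iff_map_eq_zero]
      intro x hx
      obtain ⟨y, rfl⟩ := ((KaehlerDifferential.exact_mapBaseChange_map R (ResidueField R) p.ResidueField) x).mp hx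
      haveI : Algebra.FormallyUnramified R (ResidueField R) := .quotient _
      rw [Subsingleton.elim y 0, map_zero]
    have h := algebraicIndependent_of_span (ResidueField R) p.ResidueField
      (fun i => algebraMap A p.ResidueField (t (Fin.cast hbij.symm i))) (by
        have h1 : (⊤ : Submodule p.ResidueField _).map
            (KaehlerDifferential.map R (ResidueField R) p.ResidueField p.ResidueField) = ⊤ := by
          rw [Submodule.map_top, LinearMap.range_eq_top]
          exact KaehlerDifferential.map_surjective R (ResidueField R) p.ResidueField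
        rw [← h1]
        refine le_antisymm (h1.symm ▸ le_top) ?_
        rw [← ht, Submodule.map_span, Submodule.span_le]
        rintro _ ⟨_, ⟨i, rfl⟩, rfl⟩
        refine Submodule.subset_span ⟨Fin.cast hbij i, ?_⟩
        rw [KaehlerDifferential.map_D]
        rfl)
    exact h.comp (Fin.cast hbij) (Fin.cast_injective _)
  have hP : ∀ y ∈ P, algebraMap (MvPolynomial (Fin c ⊕ Fin e) R) A y ∈
      Ideal.span (insert (algebraMap R A π) (Set.range g₀)) := by
    intro y hy
    let red : MvPolynomial (Fin c ⊕ Fin e) R →+* MvPolynomial (Fin e) (ResidueField R) :=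
      MvPolynomial.eval₂Hom (MvPolynomial.C.comp (residue R)) (Sum.elim (fun _ => 0) MvPolynomial.X)
    let sec : MvPolynomial (Fin e) R →+* MvPolynomial (Fin c ⊕ Fin e) R :=
      (MvPolynomial.rename Sum.inr).toRingHom
    have hI : ∀ z : MvPolynomial (Fin c ⊕ Fin e) R, ∃ z₁,
        algebraMap _ A z - algebraMap _ A (sec z₁) ∈ Ideal.span (insert (algebraMap R A π) (Set.range g₀)) ∧
        red z = MvPolynomial.map (residue R) z₁ := by
      intro z
      induction z using MvPolynomial.induction_on with
      | C a => exact ⟨MvPolynomial.C a, by simp [sec], by simp [red]⟩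
      | add z z' hz hz' =>
        obtain ⟨z₁, h1, h2⟩ := hz
        obtain ⟨z₂, h3, h4⟩ := hz'
        exact ⟨z₁ + z₂, by simpa [sub_add_sub_comm] using add_mem h1 h3, by rw [map_add, map_add, h2, h4]⟩
      | mul_X z i hz =>
        obtain ⟨z₁, h1, h2⟩ := hz
        cases i with
        | inl i =>
          refine ⟨0, ?_, by simp [red]⟩
          rw [map_zero, map_zero, sub_zero, map_mul]
          refine Ideal.mul_mem_left _ _ (Ideal.subset_span (Set.mem_insert_of_mem _ ⟨i, ?_⟩))
          exact (MvPolynomial.aeval_X b (Sum.inl i)).symm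
        | inr i =>
          refine ⟨z₁ * MvPolynomial.X i, ?_, ?_⟩
          · have := Ideal.mul_mem_right (algebraMap (MvPolynomial (Fin c ⊕ Fin e) R) A (.X (Sum.inr i))) _ h1
            simpa [sec, map_mul, sub_mul] using this
          · simp only [map_mul, h2, MvPolynomial.map_X, red, MvPolynomial.eval₂Hom_X', Sum.elim_inr]
    obtain ⟨y₁, h1, h2⟩ := hI y
    have hIp : Ideal.span (insert (algebraMap R A π) (Set.range g₀)) ≤ p := by
      rw [Ideal.span_le]
      rintro _ (rfl | ⟨i, rfl⟩)
      · show π ∈ p.comap (algebraMap R A)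
        rw [hp, hπ]; exact Ideal.mem_span_singleton_self π
      · exact hg₀ i
    have h3 : algebraMap _ A (sec y₁) ∈ p := by
      have := p.sub_mem (show algebraMap _ A y ∈ p from hy) (hIp h1)
      rwa [sub_sub_cancel] at this
    have h4 : MvPolynomial.map (residue R) y₁ = 0 := by
      refine hind ?_
      rw [map_zero, ← Ideal.algebraMap_residueField_eq_zero.mpr h3]
      show MvPolynomial.aeval _ (MvPolynomial.map (residue R) y₁) = _
      rw [show residue R = algebraMap R (ResidueField R) from rfl, MvPolynomial.aeval_map_algebraMap,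
        show algebraMap (MvPolynomial (Fin c ⊕ Fin e) R) A (sec y₁) = MvPolynomial.aeval b
          (MvPolynomial.rename Sum.inr y₁) from rfl, MvPolynomial.aeval_rename]
      exact DFunLike.congr_fun (MvPolynomial.comp_aeval (b ∘ Sum.inr) (IsScalarTower.toAlgHom R A p.ResidueField)).symm y₁
    have h5 : ∀ m, y₁.coeff m ∈ maximalIdeal R := fun m => by
      rw [← residue_eq_zero_iff, ← MvPolynomial.coeff_map, h4, MvPolynomial.coeff_zero]
    have h6 : algebraMap _ A (sec y₁) ∈ Ideal.span (insert (algebraMap R A π) (Set.range g₀)) := by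
      rw [MvPolynomial.as_sum y₁, map_sum, map_sum]
      refine Ideal.sum_mem _ fun m _ => ?_
      obtain ⟨a, ha⟩ := Ideal.mem_span_singleton'.mp (hπ ▸ h5 m)
      rw [← ha, show MvPolynomial.monomial m (a * π) = MvPolynomial.C π * MvPolynomial.monomial m a from by
        rw [MvPolynomial.C_mul_monomial, mul_comm], map_mul, map_mul]
      refine Ideal.mul_mem_right _ _ (Ideal.subset_span (Or.inl ?_))
      simp [sec, MvPolynomial.algebraMap_eq, RingHom.algebraMap_toAlgebra]
    simpa using add_mem h1 h6
  obtain ⟨s₁, hs₁, hs₁p⟩ : ∃ s₁, s₁ ∉ p ∧ ∀ x ∈ p,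
      s₁ * x ∈ Ideal.span (insert (algebraMap R A π) (Set.range g₀)) := by
    obtain ⟨G, hG⟩ := (isNoetherian_def.mp inferInstance p : p.FG)
    have key : ∀ x ∈ p, ∃ v, v ∉ p ∧ v * x ∈ Ideal.span (insert (algebraMap R A π) (Set.range g₀)) := by
      intro x hx
      have h1 : algebraMap A L x ∈ maximalIdeal L := by
        exact (IsLocalization.AtPrime.to_map_mem_maximal_iff L p _).mpr hx
      rw [← hmax, IsScalarTower.algebraMap_eq _ A L, ← Ideal.map_map] at h1
      have h2 : algebraMap A L x ∈ (Ideal.span (insert (algebraMap R A π) (Set.range g₀))).map (algebraMap A L) :=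
        Ideal.map_mono (Ideal.map_le_iff_le_comap.mpr hP) h1
      rw [IsLocalization.algebraMap_mem_map_algebraMap_iff p.primeCompl] at h2
      obtain ⟨v, hv, hvx⟩ := h2
      exact ⟨v, hv, hvx⟩
    choose v hv hvx using key
    have hGp : ∀ x ∈ G, x ∈ p := fun x hx => hG ▸ Submodule.subset_span hx
    refine ⟨∏ x ∈ G.attach, v x.1 (hGp x.1 x.2),
      fun h => ?_, fun x hx => ?_⟩
    · obtain ⟨x, -, hx⟩ := Ideal.IsPrime.prod_mem_iff.mp h
      exact hv _ _ hx
    · rw [← hG] at hx
      induction hx using Submodule.span_induction with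
      | mem x hx =>
        obtain ⟨d, hd⟩ := Finset.dvd_prod_of_mem (fun z : {z // z ∈ G} => v z.1 (hGp z.1 z.2))
          (Finset.mem_attach G ⟨x, hx⟩)
        rw [hd, mul_comm (v _ _), mul_assoc]
        exact Ideal.mul_mem_left _ _ (hvx x _)
      | zero => rw [mul_zero]; exact zero_mem _
      | add x y _ _ hx hy => rw [mul_add]; exact add_mem hx hy
      | smul r x _ hx => rw [smul_eq_mul, mul_left_comm]; exact Ideal.mul_mem_left _ r hx
  haveI : Algebra.FinitePresentation (MvPolynomial (Fin c ⊕ Fin e) R) A :=
    Algebra.FinitePresentation.of_finiteType.mp inferInstance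
  haveI : Algebra.IsEtaleAt (MvPolynomial (Fin c ⊕ Fin e) R) p := hfet
  obtain ⟨f₀, hf₀, het⟩ := Algebra.exists_etale_of_isEtaleAt (R := MvPolynomial (Fin c ⊕ Fin e) R) p
  refine ⟨c, e, b, f₀ * s₁, fun h => (Ideal.IsPrime.mem_or_mem ‹_› h).elim hf₀ hs₁, hg₀,
    fun x hx => mul_assoc f₀ s₁ x ▸ Ideal.mul_mem_left _ _ (hs₁p x hx), ?_⟩
  haveI := het
  let Af := Localization.Away f₀
  haveI : Algebra.Etale Af (Localization.Away (algebraMap A Af s₁)) :=
    Algebra.Etale.of_isLocalizationAway (algebraMap A Af s₁)
  haveI : Algebra.Etale (MvPolynomial (Fin c ⊕ Fin e) R) (Localization.Away (algebraMap A Af s₁)) :=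
    Algebra.Etale.comp _ Af _
  exact Algebra.Etale.of_equiv ((IsLocalization.algEquiv (Submonoid.powers (f₀ * s₁))
    (Localization.Away (algebraMap A Af s₁)) (Localization.Away (f₀ * s₁))).restrictScalars
      (MvPolynomial (Fin c ⊕ Fin e) R))

end DVR

section Chart

variable {R A : Type u} [CommRing R] [IsDomain R] [CommRing A] [Algebra R A]

set_option maxHeartbeats 400000 in
/-- The chart `A_s[g/π]` is formally smooth. -/
theorem formallySmooth_chart (π : R) (hπ : π ≠ 0) {c e : ℕ} (b : Fin c ⊕ Fin e → A) (s : A)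
    (het : letI := (MvPolynomial.aeval b : MvPolynomial (Fin c ⊕ Fin e) R →ₐ[R] A).toRingHom.toAlgebra
      Algebra.Etale (MvPolynomial (Fin c ⊕ Fin e) R) (Localization.Away s))
    (D : Type u) [CommRing D] [Algebra R D] [Algebra A D] [IsScalarTower R A D]
    (hs : IsUnit (algebraMap A D s)) (w : Fin c → D)
    (hw : ∀ i, algebraMap R D π * w i = algebraMap A D (b (Sum.inl i)))
    (hgen : ∀ d : D, ∃ m : ℕ, algebraMap A D s ^ m * d ∈ Algebra.adjoin A (Set.range w))
    (hker : ∀ a, algebraMap A D a = 0 → ∃ N m : ℕ, algebraMap R A π ^ N * s ^ m * a = 0) :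
    Algebra.FormallySmooth R D := by
  let P := MvPolynomial (Fin c ⊕ Fin e) R
  letI := (MvPolynomial.aeval b : P →ₐ[R] A).toRingHom.toAlgebra
  haveI : IsScalarTower R P A := .of_algebraMap_eq fun a => ((MvPolynomial.aeval b).commutes a).symm
  haveI := het
  let B := Localization.Away s
  let Q := MvPolynomial (Fin e ⊕ Fin c) R
  let θ : P →ₐ[R] Q := MvPolynomial.aeval (Sum.elim
    (fun i => MvPolynomial.C π * MvPolynomial.X (Sum.inr i)) (fun j => MvPolynomial.X (Sum.inl j)))
  letI : Algebra P Q := θ.toRingHom.toAlgebra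
  haveI : IsScalarTower R P Q := .of_algebraMap_eq fun a => (θ.commutes a).symm
  haveI : Algebra.Etale Q (Q ⊗[P] B) := inferInstance
  haveI : Algebra.FormallySmooth R (Q ⊗[P] B) := Algebra.FormallySmooth.comp R Q _
  let hB : B →ₐ[R] D := IsLocalization.liftAlgHom (M := Submonoid.powers s) (f := IsScalarTower.toAlgHom R A D)
    (fun y => by obtain ⟨m, hm⟩ := y.2; rw [← hm]; simpa using hs.pow m)
  have hBA : ∀ a, hB (algebraMap A B a) = algebraMap A D a := fun a => IsLocalization.lift_eq _ a
  letI : Algebra P D := ((algebraMap A D).comp (algebraMap P A)).toAlgebra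
  haveI : IsScalarTower R P D := .of_algebraMap_eq fun a => by
    show _ = algebraMap A D (algebraMap P A (algebraMap R P a))
    rw [← IsScalarTower.algebraMap_apply R P A, ← IsScalarTower.algebraMap_apply R A D]
  have hθl : ∀ i, θ (.X (Sum.inl i)) = MvPolynomial.C π * MvPolynomial.X (Sum.inr i) :=
    fun i => MvPolynomial.aeval_X _ _
  have hθr : ∀ i, θ (.X (Sum.inr i)) = MvPolynomial.X (Sum.inl i) := fun i => MvPolynomial.aeval_X _ _
  let hQ : Q →ₐ[R] D := MvPolynomial.aeval (Sum.elim (fun j => algebraMap A D (b (Sum.inr j))) w)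
  have hQl : ∀ i, hQ (.X (Sum.inr i)) = w i := fun i => MvPolynomial.aeval_X _ _
  have hQr : ∀ j, hQ (.X (Sum.inl j)) = algebraMap A D (b (Sum.inr j)) := fun j => MvPolynomial.aeval_X _ _
  have hQθ : hQ.comp θ = IsScalarTower.toAlgHom R P D := by
    refine MvPolynomial.algHom_ext fun i => ?_
    show hQ (θ (.X i)) = algebraMap A D (MvPolynomial.aeval b (MvPolynomial.X i))
    rw [MvPolynomial.aeval_X b]
    cases i with
    | inl i =>
      rw [hθl, map_mul, hQl, ← hw]
      exact congrArg (· * _) (hQ.commutes π)
    | inr j => rw [hθr, hQr]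
  let hQ' : Q →ₐ[P] D := AlgHom.mk hQ.toRingHom fun a => DFunLike.congr_fun hQθ a
  let hB' : B →ₐ[P] D := AlgHom.mk hB.toRingHom fun a => by
    show hB (algebraMap P B a) = _
    rw [IsScalarTower.algebraMap_apply P A B, hBA]
    rfl
  let h₀ : Q ⊗[P] B →ₐ[P] D := Algebra.TensorProduct.lift hQ' hB' fun _ _ => .all _ _
  let h : Q ⊗[P] B →ₐ[R] D := h₀.restrictScalars R
  have htmul : ∀ (y : Q) (x : B), h (y ⊗ₜ[P] x) = hQ y * hB x  :=
    fun y x => Algebra.TensorProduct.lift_tmul hQ' hB' (fun _ _ => .all _ _) y x
  have hsurj : Function.Surjective h := by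
    intro d
    obtain ⟨m, hm⟩ := hgen d
    have h1 : ∀ z ∈ Algebra.adjoin A (Set.range w), ∃ u, h u = z := by
      intro z hz
      induction hz using Algebra.adjoin_induction with
      | mem z hz =>
        obtain ⟨i, rfl⟩ := hz
        exact ⟨MvPolynomial.X (Sum.inr i) ⊗ₜ 1, by rw [htmul, hQl, map_one, mul_one]⟩
      | algebraMap a => exact ⟨1 ⊗ₜ algebraMap A B a, by simp [htmul, hBA]⟩
      | add x y _ _ hx hy =>
        obtain ⟨u, rfl⟩ := hx; obtain ⟨v, rfl⟩ := hy; exact ⟨u + v, map_add _ _ _⟩
      | mul x y _ _ hx hy =>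
        obtain ⟨u, rfl⟩ := hx; obtain ⟨v, rfl⟩ := hy; exact ⟨u * v, map_mul _ _ _⟩
    obtain ⟨u, hu⟩ := h1 _ hm
    refine ⟨1 ⊗ₜ (IsLocalization.mk' B 1 (⟨s ^ m, ⟨m, rfl⟩⟩ : Submonoid.powers s)) * u, ?_⟩
    rw [map_mul, hu, htmul, map_one, one_mul, ← map_pow, ← hBA, ← mul_assoc, ← map_mul,
      IsLocalization.mk'_spec, hBA, map_one, one_mul]
  have hP : ∀ y : Q, ∃ (N : ℕ) (a : P), algebraMap R Q π ^ N * y = θ a := by
    intro y
    induction y using MvPolynomial.induction_on with
    | C a => exact ⟨0, MvPolynomial.C a, by rw [pow_zero, one_mul]; exact (θ.commutes a).symm⟩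
    | add y z hy hz =>
      obtain ⟨N, a, ha⟩ := hy
      obtain ⟨M, a', ha'⟩ := hz
      refine ⟨N + M, algebraMap R P π ^ M * a + algebraMap R P π ^ N * a', ?_⟩
      rw [map_add, map_mul, map_mul, map_pow, map_pow, θ.commutes, ← ha, ← ha']
      ring
    | mul_X y i hy =>
      obtain ⟨N, a, ha⟩ := hy
      cases i with
      | inr i =>
        refine ⟨N + 1, a * MvPolynomial.X (Sum.inl i), ?_⟩
        rw [map_mul, ← ha, pow_succ, MvPolynomial.algebraMap_eq]
        rw [hθl]
        ring
      | inl i =>
        refine ⟨N, a * MvPolynomial.X (Sum.inr i), ?_⟩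
        rw [map_mul, ← ha]
        rw [hθr]
        ring
  haveI : Module.Flat R (Q ⊗[P] B) := Module.Flat.trans R Q _
  have hreg : ∀ z : Q ⊗[P] B, ∀ N : ℕ, algebraMap R (Q ⊗[P] B) π ^ N * z = 0 → z = 0 := by
    intro z N hz
    refine (Module.Flat.isSMulRegular_of_nonZeroDivisors (M := Q ⊗[P] B)
      (pow_mem (mem_nonZeroDivisors_of_ne_zero hπ) N)).right_eq_zero_of_smul ?_
    show π ^ N • z = 0
    rw [← algebraMap_smul (Q ⊗[P] B) (π ^ N) z, smul_eq_mul, map_pow]
    exact hz
  have hinj : Function.Injective h := by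
    rw [injective_iff_map_eq_zero]
    intro z hz
    obtain ⟨N, x, hx⟩ : ∃ (N : ℕ) (x : B), algebraMap R (Q ⊗[P] B) π ^ N * z = 1 ⊗ₜ x := by
      clear hz
      induction z using TensorProduct.induction_on with
      | zero => exact ⟨0, 0, by simp⟩
      | tmul y x =>
        obtain ⟨N, a, ha⟩ := hP y
        refine ⟨N, a • x, ?_⟩
        rw [← map_pow, Algebra.TensorProduct.algebraMap_apply, map_pow, Algebra.TensorProduct.tmul_mul_tmul,
          one_mul, ha, TensorProduct.tmul_smul, TensorProduct.smul_tmul']
        congr 1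
        rw [Algebra.smul_def, mul_one]
        rfl
      | add y y' hy hy' =>
        obtain ⟨N, x, hx⟩ := hy
        obtain ⟨M, x', hx'⟩ := hy'
        refine ⟨N + M, algebraMap R B π ^ M * x + algebraMap R B π ^ N * x', ?_⟩
        have hconv : ∀ (k : ℕ) (v : B), ((1 : Q) ⊗ₜ[P] (algebraMap R B π ^ k * v) : Q ⊗[P] B) =
            algebraMap R (Q ⊗[P] B) π ^ k * (1 ⊗ₜ v) := fun k v => by
          rw [← (Algebra.TensorProduct.includeRight.restrictScalars R :
            B →ₐ[R] Q ⊗[P] B).commutes π]
          exact (map_mul (Algebra.TensorProduct.includeRight : B →ₐ[P] Q ⊗[P] B) _ _).trans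
            (congrArg (· * _) (map_pow _ _ _))
        rw [TensorProduct.tmul_add, hconv, hconv, ← hx, ← hx']
        ring
    have h0 : hB x = 0 := by
      have h1 := congrArg h hx
      rw [map_mul, hz, mul_zero, htmul, map_one, one_mul] at h1
      exact h1.symm
    obtain ⟨a, v, rfl⟩ := IsLocalization.exists_mk'_eq (Submonoid.powers s) x
    have h1 : algebraMap A D a = 0 := by
      rw [← hBA, ← IsLocalization.mk'_spec B a v, map_mul, h0, zero_mul]
    obtain ⟨M, m, hm⟩ := hker a h1
    have h2 : algebraMap R B π ^ M * IsLocalization.mk' B a v = 0 := by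
      rw [IsScalarTower.algebraMap_apply R A B, ← map_pow, IsLocalization.mul_mk'_eq_mk'_of_mul,
        IsLocalization.mk'_eq_zero_iff]
      exact ⟨⟨s ^ m, ⟨m, rfl⟩⟩, by rw [← hm]; ring⟩
    refine hreg z (M + N) ?_
    rw [pow_add, mul_assoc, hx, ← (Algebra.TensorProduct.includeRight.restrictScalars R :
            B →ₐ[R] Q ⊗[P] B).commutes π, ← map_pow]
    refine (map_mul (Algebra.TensorProduct.includeRight : B →ₐ[P] Q ⊗[P] B) _ _).symm.trans ?_
    rw [h2, map_zero]
  exact Algebra.FormallySmooth.of_equiv (AlgEquiv.ofBijective h ⟨hinj, hsurj⟩)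

end Chart

end Groth.Agent.Unram24.Neron
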