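import Groth.Agent.Unram24.EtaleFrame
import Groth.Agent.Unram24.LogRes
import Groth.Agent.LiftLib.NCDChart
import Groth.Agent.ExtPowSt.Exists
import Groth.Agent.Omega.LocalStructure
import Mathlib.Algebra.Module.LocalizedModule.Basic
import Mathlib.RingTheory.Flat.Basic

/-!
# Existence of the sheaf of logarithmic differentials
-/

set_option autoImplicit false
set_option backward.isDefEq.respectTransparency.types false
set_option linter.style.haveILetI false
set_option linter.unusedSectionVars false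
set_option maxHeartbeats 1000000

universe u

open CategoryTheory CategoryTheory.Limits AlgebraicGeometry Opposite TopologicalSpace nonZeroDivisors

noncomputable section

namespace Groth.Agent.Unram24.LogExists

open Groth.Agent.PullStalk.Sky Groth.Agent.PullStalk.Exact Groth.Agent.Omega.Stalks
  Groth.Agent.ExtFilt.Stalkwise Groth.Agent.QCoh Groth.Agent.Props.SubMod Groth.Agent.Props.SubSheaf
  Groth.Agent.LFFrame

variable {X S : Scheme.{u}} {f : X ⟶ S} {Ω' : X.Modules} (d : OmegaSh.Der f Ω')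

/-- The stalks with arbitrary poles. -/
abbrev Q (Ω' : X.Modules) (y : X) : Type u := LocalizedModule (X.presheaf.stalk y)⁰ (Ω'.presheaf.stalk y)

/-- Families with poles. -/
abbrev Fam (Ω' : X.Modules) (U : X.Opens) : Type u := ∀ y : U, Q Ω' y.1

instance famModule (U : X.Opens) : Module Γ(X, U) (Fam Ω' U) :=
  letI : ∀ y : U, Module Γ(X, U) (Q Ω' y.1) := fun y => Module.compHom _ (X.presheaf.germ U y.1 y.2).hom
  inferInstanceAs (Module Γ(X, U) (∀ y : U, Q Ω' y.1))

theorem fam_smul {U : X.Opens} (r : Γ(X, U)) (s : Fam Ω' U) (y : U) :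
    (r • s) y = X.presheaf.germ U y.1 y.2 r • s y := rfl

/-- A form without poles. -/
def qF (U : X.Opens) : Γ(Ω', U) →ₗ[Γ(X, U)] Fam Ω' U where
  toFun w := fun y => LocalizedModule.mkLinearMap _ _ (germM Ω' U y.1 y.2 w)
  map_add' a b := funext fun y => by
    show _ = LocalizedModule.mkLinearMap _ _ _ + LocalizedModule.mkLinearMap _ _ _
    rw [← map_add]
    exact congrArg _ (map_add (Ω'.presheaf.germ U y.1 y.2).hom a b)
  map_smul' r w := funext fun y => by
    show LocalizedModule.mkLinearMap (X.presheaf.stalk y.1)⁰ (Ω'.presheaf.stalk y.1) _ = _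
    rw [germM_smul]
    exact LinearMap.map_smul (LocalizedModule.mkLinearMap (X.presheaf.stalk y.1)⁰ (Ω'.presheaf.stalk y.1)) _ _

open Classical in
/-- The logarithmic differential of a function. -/
def dlF (U : X.Opens) (g : Γ(X, U)) : Fam Ω' U := fun y =>
  if h : X.presheaf.germ U y.1 y.2 g ∈ (X.presheaf.stalk y.1)⁰ then
    LocalizedModule.mk (germM Ω' U y.1 y.2 (d.app U g)) ⟨_, h⟩ else 0

theorem smul_dlF {U : X.Opens} (g : Γ(X, U)) (hg : ∀ y (hy : y ∈ U), X.presheaf.germ U y hy g ∈ (X.presheaf.stalk y)⁰) :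
    g • dlF d U g = qF U (d.app U g) := funext fun y => by
  show X.presheaf.germ U y.1 y.2 g • dlF d U g y = LocalizedModule.mkLinearMap _ _ _
  rw [dlF, dif_pos (hg y.1 y.2), LocalizedModule.smul'_mk, LocalizedModule.mkLinearMap_apply]
  exact LocalizedModule.mk_cancel ⟨_, hg y.1 y.2⟩ _

theorem eq_of_smul_eq {y : X} {c : X.presheaf.stalk y} (hc : c ∈ (X.presheaf.stalk y)⁰) {a b : Q Ω' y}
    (h : c • a = c • b) : a = b := by
  have := (IsLocalizedModule.smul_injective (LocalizedModule.mkLinearMap (X.presheaf.stalk y)⁰ (Ω'.presheaf.stalk y)) ⟨c, hc⟩)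
  exact this h

variable {r : ℕ} (D : Fin r → X.IdealSheafData)

/-- Principal charts with regular equations. -/
structure Chart where
  W : X.affineOpens
  g : Fin r → Γ(X, W.1)
  span : ∀ i, (D i).ideal W = Ideal.span {g i}
  reg : ∀ i y (hy : y ∈ W.1), X.presheaf.germ W.1 y hy (g i) ∈ (X.presheaf.stalk y)⁰
  inj : ∀ y, y ∈ W.1 → Function.Injective (LocalizedModule.mkLinearMap (X.presheaf.stalk y)⁰ (Ω'.presheaf.stalk y))
  indep : ∀ y (hy : y ∈ W.1) (a : Fin r → X.presheaf.stalk y) (w : Ω'.presheaf.stalk y),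
    X.presheaf.germ W.1 y hy (∏ i, g i) • w + ∑ i, (a i * X.presheaf.germ W.1 y hy (∏ k ∈ Finset.univ.erase i, g k)) •
      germM Ω' W.1 y hy (d.app W.1 (g i)) = 0 → ∀ i, ∃ c, a i = c * X.presheaf.germ W.1 y hy (g i)

variable {d D}

theorem Chart.reg_prod (C : Chart d D) (J : Finset (Fin r)) (y : X) (hy : y ∈ C.W.1) :
    X.presheaf.germ C.W.1 y hy (∏ i ∈ J, C.g i) ∈ (X.presheaf.stalk y)⁰ := by
  rw [map_prod]
  exact Submonoid.prod_mem _ fun i _ => C.reg i y hy

/-- An expansion on a chart. -/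
def Chart.exp (C : Chart d D) (w : Γ(Ω', C.W.1)) (a : Fin r → Γ(X, C.W.1)) : Fam Ω' C.W.1 :=
  qF C.W.1 w + ∑ i, a i • dlF d C.W.1 (C.g i)

/-- Restriction of families. -/
def resF {U V : X.Opens} (h : V ≤ U) (s : Fam Ω' U) : Fam Ω' V := fun y => s ⟨y.1, h y.2⟩

theorem resF_smul {U V : X.Opens} (h : V ≤ U) (c : Γ(X, U)) (s : Fam Ω' U) :
    resF h (c • s) = X.presheaf.map (homOfLE h).op c • resF h s := funext fun y => by
  show X.presheaf.germ U y.1 (h y.2) c • s ⟨y.1, h y.2⟩ = _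
  rw [fam_smul, X.presheaf.germ_res_apply]
  rfl

theorem resF_qF {U V : X.Opens} (h : V ≤ U) (w : Γ(Ω', U)) : resF h (qF U w) = qF V (res Ω' h w) :=
  funext fun y => by
    show LocalizedModule.mkLinearMap _ _ _ = LocalizedModule.mkLinearMap _ _ _
    rw [germM_res']

theorem resF_dlF {U V : X.Opens} (h : V ≤ U) (g : Γ(X, U))
    (hg : ∀ y (hy : y ∈ U), X.presheaf.germ U y hy g ∈ (X.presheaf.stalk y)⁰) :
    resF h (dlF d U g) = dlF d V (X.presheaf.map (homOfLE h).op g) := funext fun y => by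
  have hg' : ∀ z (hz : z ∈ V), X.presheaf.germ V z hz (X.presheaf.map (homOfLE h).op g) ∈ (X.presheaf.stalk z)⁰ :=
    fun z hz => by rw [X.presheaf.germ_res_apply]; exact hg z (h hz)
  refine eq_of_smul_eq (hg' y.1 y.2) ?_
  refine Eq.trans ?_ (congrFun (smul_dlF d _ hg') y).symm
  show _ • dlF d U g ⟨y.1, h y.2⟩ = _
  rw [X.presheaf.germ_res_apply, show d.app V (X.presheaf.map (homOfLE h).op g) = res Ω' h (d.app U g) from
    d.d_map (homOfLE h).op g]
  exact (congrFun (smul_dlF d g hg) ⟨y.1, h y.2⟩).trans (congrFun (resF_qF h (d.app U g)) y)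

theorem resF_exp (C C' : Chart d D) (h : C'.W.1 ≤ C.W.1) (hg : ∀ i, C'.g i = X.presheaf.map (homOfLE h).op (C.g i))
    (w : Γ(Ω', C.W.1)) (a : Fin r → Γ(X, C.W.1)) :
    resF h (C.exp w a) = C'.exp (res Ω' h w) (fun i => X.presheaf.map (homOfLE h).op (a i)) := by
  unfold Chart.exp
  rw [← resF_qF h w]
  have e : ∀ i, X.presheaf.map (homOfLE h).op (a i) • dlF d C'.W.1 (C'.g i) = resF h (a i • dlF d C.W.1 (C.g i)) :=
    fun i => by rw [resF_smul, resF_dlF h _ (C.reg i), hg i]
  rw [Finset.sum_congr rfl fun i _ => e i]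
  funext y
  simp only [resF, Pi.add_apply, Finset.sum_apply]

/-- The restriction of a chart to a smaller affine open. -/
def Chart.restrict (C : Chart d D) (V : X.affineOpens) (h : V.1 ≤ C.W.1) : Chart d D where
  W := V
  g i := X.presheaf.map (homOfLE h).op (C.g i)
  span i := by
    rw [← (D i).map_ideal (U := V) (V := C.W) h, C.span i, Ideal.map_span, Set.image_singleton]
    rfl
  reg i y hy := by rw [X.presheaf.germ_res_apply]; exact C.reg i y (h hy)
  inj y hy := C.inj y (h hy)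
  indep y hy a w := by
    simp only [← map_prod, X.presheaf.germ_res_apply]
    intro H
    refine C.indep y (h hy) a w ?_
    refine Eq.trans ?_ H
    refine congrArg _ (Finset.sum_congr rfl fun i _ => congrArg _ ?_)
    rw [show d.app V.1 (X.presheaf.map (homOfLE h).op (C.g i)) = res Ω' h (d.app C.W.1 (C.g i)) from
      d.d_map (homOfLE h).op (C.g i), germM_res']

/-- Other equations on the same open give the same coefficients. -/
theorem exp_change (C : Chart d D) (g' : Fin r → Γ(X, C.W.1)) (hspan' : ∀ i, (D i).ideal C.W = Ideal.span {g' i})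
    (hreg' : ∀ i y (hy : y ∈ C.W.1), X.presheaf.germ C.W.1 y hy (g' i) ∈ (X.presheaf.stalk y)⁰)
    (w : Γ(Ω', C.W.1)) (a : Fin r → Γ(X, C.W.1)) :
    ∃ w₁ : Γ(Ω', C.W.1), qF C.W.1 w + ∑ i, a i • dlF d C.W.1 (g' i) = C.exp w₁ a := by
  have hspan : ∀ i, Ideal.span {g' i} = Ideal.span {C.g i} := fun i => by rw [← C.span i, hspan' i]
  have hu : ∀ i, ∃ u v, g' i = u * C.g i ∧ v * u = 1 := fun i => by
    obtain ⟨u, hu⟩ := Ideal.mem_span_singleton'.mp ((hspan i).le (Ideal.mem_span_singleton_self _))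
    obtain ⟨v, hv⟩ := Ideal.mem_span_singleton'.mp ((hspan i).ge (Ideal.mem_span_singleton_self _))
    refine ⟨u, v, hu.symm, ?_⟩
    refine TopCat.Presheaf.section_ext X.sheaf C.W.1 _ _ fun y hy => ?_
    show X.presheaf.germ C.W.1 y hy (v * u) = X.presheaf.germ C.W.1 y hy 1
    refine (isRegular_iff_mem_nonZeroDivisors.mpr (C.reg i y hy)).right ?_
    show _ * X.presheaf.germ C.W.1 y hy (C.g i) = _ * X.presheaf.germ C.W.1 y hy (C.g i)
    rw [← map_mul, ← map_mul, mul_assoc, hu, hv, one_mul]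
  choose u v hu hvu using hu
  refine ⟨w + ∑ i, (a i * v i) • d.app C.W.1 (u i), ?_⟩
  have hdl : ∀ i, dlF d C.W.1 (g' i) = dlF d C.W.1 (C.g i) + qF C.W.1 (v i • d.app C.W.1 (u i)) := fun i => by
    funext y
    refine eq_of_smul_eq (hreg' i y.1 y.2) ?_
    show (g' i • dlF d C.W.1 (g' i)) y = (g' i • (dlF d C.W.1 (C.g i) + qF C.W.1 (v i • d.app C.W.1 (u i)))) y
    refine congrFun ?_ y
    rw [smul_dlF d _ (hreg' i), smul_add, ← LinearMap.map_smul, hu i, mul_smul, smul_dlF d _ (C.reg i),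
      ← LinearMap.map_smul, ← map_add, smul_smul]
    refine congrArg _ ?_
    rw [show u i * C.g i * v i = C.g i from by rw [mul_comm (u i), mul_assoc, mul_comm (u i), hvu, mul_one]]
    exact d.d_mul (X := op C.W.1) (u i) (C.g i)
  unfold Chart.exp
  rw [map_add, map_sum, add_assoc, ← Finset.sum_add_distrib]
  refine congrArg _ (Finset.sum_congr rfl fun i _ => ?_)
  rw [hdl i, smul_add, ← LinearMap.map_smul, smul_smul, add_comm]

variable (d D) in
/-- Every point has a chart inside a given open. -/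
def HasCharts : Prop := ∀ (x : X) (W₀ : X.Opens), x ∈ W₀ → ∃ C : Chart d D, x ∈ C.W.1 ∧ C.W.1 ≤ W₀

variable (d D) in
/-- Families that locally have logarithmic poles. -/
def IsSec (U : X.Opens) (s : Fam Ω' U) : Prop :=
  ∀ x : U, ∃ (C : Chart d D) (h : C.W.1 ≤ U) (w : Γ(Ω', C.W.1)) (a : Fin r → Γ(X, C.W.1)),
    x.1 ∈ C.W.1 ∧ resF h s = C.exp w a

theorem exp_le (C : Chart d D) (w : Γ(Ω', C.W.1)) (a : Fin r → Γ(X, C.W.1)) (C' : Chart d D)
    (h : C'.W.1 ≤ C.W.1) :
    ∃ w', resF h (C.exp w a) = C'.exp w' (fun i => X.presheaf.map (homOfLE h).op (a i)) := by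
  let R := C.restrict C'.W h
  obtain ⟨w₁, hw₁⟩ := exp_change C' R.g R.span R.reg (res Ω' h w) (fun i => X.presheaf.map (homOfLE h).op (a i))
  exact ⟨w₁, (resF_exp C R h (fun i => rfl) w a).trans hw₁⟩

theorem IsSec.exists_le (hC : HasCharts d D) {U : X.Opens} {s : Fam Ω' U} (hs : IsSec d D U s) (x : U)
    (O : X.Opens) (hx : x.1 ∈ O) :
    ∃ (C : Chart d D) (h : C.W.1 ≤ U) (w : Γ(Ω', C.W.1)) (a : Fin r → Γ(X, C.W.1)),
      C.W.1 ≤ O ∧ x.1 ∈ C.W.1 ∧ resF h s = C.exp w a := by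
  obtain ⟨C, hCU, w, a, hxC, he⟩ := hs x
  obtain ⟨C', hx', hle⟩ := hC x.1 (C.W.1 ⊓ O) ⟨hxC, hx⟩
  obtain ⟨w', hw'⟩ := exp_le C w a C' (hle.trans inf_le_left)
  exact ⟨C', (hle.trans inf_le_left).trans hCU, w', _, hle.trans inf_le_right, hx', by rw [← hw', ← he]; rfl⟩

theorem exp_smul (C : Chart d D) (c : Γ(X, C.W.1)) (w : Γ(Ω', C.W.1)) (a : Fin r → Γ(X, C.W.1)) :
    c • C.exp w a = C.exp (c • w) (fun i => c * a i) := by
  unfold Chart.exp
  rw [smul_add, Finset.smul_sum, LinearMap.map_smul]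
  exact congrArg _ (Finset.sum_congr rfl fun i _ => smul_smul _ _ _)

theorem exp_add (C : Chart d D) (w w' : Γ(Ω', C.W.1)) (a a' : Fin r → Γ(X, C.W.1)) :
    C.exp w a + C.exp w' a' = C.exp (w + w') (a + a') := by
  unfold Chart.exp
  simp only [map_add, Pi.add_apply, add_smul, Finset.sum_add_distrib]
  abel

theorem exp_qF (C : Chart d D) (w : Γ(Ω', C.W.1)) : C.exp w 0 = qF C.W.1 w := by
  unfold Chart.exp
  simp

variable (hC : HasCharts d D)
include hC

/-- The sections. -/
def sec (U : X.Opens) : Submodule Γ(X, U) (Fam Ω' U) where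
  carrier := {s | IsSec d D U s}
  zero_mem' x := by
    obtain ⟨C, hx, hle⟩ := hC x.1 U x.2
    exact ⟨C, hle, 0, 0, hx, by rw [exp_qF, map_zero]; rfl⟩
  add_mem' {a b} ha hb x := by
    obtain ⟨C, h, w, c, hx, he⟩ := ha x
    obtain ⟨C', h', w', c', hle, hx', he'⟩ := IsSec.exists_le hC hb x C.W.1 hx
    obtain ⟨w₁, hw₁⟩ := exp_le C w c C' hle
    refine ⟨C', h', w₁ + w', (fun i => X.presheaf.map (homOfLE hle).op (c i)) + c', hx', ?_⟩
    rw [← exp_add, ← hw₁, ← he, ← he']
    rfl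
  smul_mem' c {s} hs x := by
    obtain ⟨C, h, w, a, hx, he⟩ := hs x
    exact ⟨C, h, _, _, hx, by rw [resF_smul, he, exp_smul]⟩

/-- The presheaf of sections. -/
def abPre : TopCat.Presheaf Ab.{u} X where
  obj U := AddCommGrpCat.of (sec hC U.unop)
  map {U V} f := AddCommGrpCat.ofHom
    { toFun := fun s => ⟨fun x => s.1 ⟨x.1, leOfHom f.unop x.2⟩, fun x => by
        obtain ⟨C, h, w, a, hle, hx, he⟩ := IsSec.exists_le hC s.2 ⟨x.1, leOfHom f.unop x.2⟩ V.unop x.2
        exact ⟨C, hle, w, a, hx, he⟩⟩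
      map_zero' := rfl
      map_add' := fun _ _ => rfl }
  map_id _ := rfl
  map_comp _ _ := rfl

instance abModule (U : X.Opensᵒᵖ) : Module (X.ringCatSheaf.obj.obj U) ((abPre hC).obj U) :=
  inferInstanceAs (Module Γ(X, U.unop) (sec hC U.unop))

theorem abPre_isSheaf : TopCat.Presheaf.IsSheaf (abPre hC) := by
  rw [TopCat.Presheaf.isSheaf_iff_isSheafUniqueGluing]
  intro ι U sf hsf
  classical
  have hex : ∀ x : ↥(iSup U), ∃ j, x.1 ∈ U j := fun x => Opens.mem_iSup.mp x.2
  let t : ∀ i, sec hC (U i) := sf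
  have hcompat : ∀ (i j : ι) (y : X) (hi : y ∈ U i) (hj : y ∈ U j),
      (t i).1 ⟨y, hi⟩ = (t j).1 ⟨y, hj⟩ := fun i j y hi hj =>
    congr_fun (congrArg Subtype.val (hsf i j)) ⟨y, ⟨hi, hj⟩⟩
  let v : Fam Ω' (iSup U) := fun x => (t (hex x).choose).1 ⟨x.1, (hex x).choose_spec⟩
  have hv : IsSec d D (iSup U) v := by
    intro x
    obtain ⟨C, hW, w, a, hx, h⟩ := (t (hex x).choose).2 ⟨x.1, (hex x).choose_spec⟩
    refine ⟨C, hW.trans (le_iSup U _), w, a, hx, (funext fun y => ?_).trans h⟩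
    exact hcompat (hex ⟨y.1, le_iSup U _ (hW y.2)⟩).choose _ y.1 (hex ⟨y.1, le_iSup U _ (hW y.2)⟩).choose_spec (hW y.2)
  refine ⟨⟨v, hv⟩, fun i => ?_, fun g hg => ?_⟩
  · exact Subtype.ext (funext fun y => hcompat (hex ⟨y.1, le_iSup U i y.2⟩).choose i y.1
      (hex ⟨y.1, le_iSup U i y.2⟩).choose_spec y.2)
  · refine Subtype.ext (funext fun x => ?_)
    exact congr_fun (congrArg Subtype.val (hg (hex x).choose)) ⟨x.1, (hex x).choose_spec⟩

/-- The module. -/
def obj : X.Modules :=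
  ⟨PresheafOfModules.ofPresheaf (R := X.ringCatSheaf.obj) (abPre hC)
    (fun {U V} f r s => Subtype.ext (funext fun x => by
      exact congrArg (fun c : X.presheaf.stalk x.1 => c • s.1 ⟨x.1, leOfHom f.unop x.2⟩)
        (X.presheaf.germ_res_apply f.unop x.1 x.2 r).symm)),
    abPre_isSheaf hC⟩

theorem isSec_qF (U : X.Opens) (w : Γ(Ω', U)) : IsSec d D U (qF U w) := fun x => by
  obtain ⟨C, hx, hle⟩ := hC x.1 U x.2
  exact ⟨C, hle, res Ω' hle w, 0, hx, by rw [resF_qF, exp_qF]⟩

/-- The inclusion of forms without poles. -/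
def inclΩ : Ω' ⟶ obj hC :=
  ⟨PresheafOfModules.homMk
    { app := fun U => AddCommGrpCat.ofHom
        (AddMonoidHom.mk' (fun w => (⟨qF U.unop w, isSec_qF hC U.unop w⟩ : sec hC U.unop))
          fun a b => Subtype.ext (map_add _ a b))
      naturality := fun {U V} i => by
        ext w
        exact Subtype.ext ((resF_qF (leOfHom i.unop) w).symm) }
    (fun U c w => Subtype.ext (LinearMap.map_smul (qF U.unop) c w))⟩

theorem mono_inclΩ : Mono (inclΩ hC) := by
  refine Preadditive.mono_of_cancel_zero _ fun g hg => ?_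
  ext U m
  refine TopCat.Presheaf.section_ext (⟨Ω'.presheaf, Ω'.isSheaf⟩ : TopCat.Sheaf Ab X) U _ _ fun x hx => ?_
  obtain ⟨C, hxC, -⟩ := hC x ⊤ trivial
  refine C.inj x hxC ?_
  have h := congrFun (congrArg Subtype.val (congrArg (fun φ : _ ⟶ obj hC => φ.app U m) hg)) ⟨x, hx⟩
  refine h.trans ?_
  show (0 : Q Ω' x) = LocalizedModule.mkLinearMap _ _ _
  exact (map_zero _).symm.trans (congrArg _ (map_zero (Ω'.presheaf.germ U x hx).hom).symm)

omit hC in
/-- Equal expansions have congruent coefficients. -/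
theorem coeff_eq (C : Chart d D) (w w' : Γ(Ω', C.W.1)) (a a' : Fin r → Γ(X, C.W.1)) (y : X) (hy : y ∈ C.W.1)
    (h : C.exp w a ⟨y, hy⟩ = C.exp w' a' ⟨y, hy⟩) (i : Fin r) :
    ∃ c, X.presheaf.germ C.W.1 y hy (a i - a' i) = c * X.presheaf.germ C.W.1 y hy (C.g i) := by
  classical
  refine C.indep y hy (fun j => X.presheaf.germ C.W.1 y hy (a j - a' j)) (germM Ω' C.W.1 y hy (w - w')) ?_ i
  refine C.inj y hy ?_
  rw [map_zero, map_add, map_sum, LinearMap.map_smul]
  have h0 : ((∏ k, C.g k) • (C.exp w a - C.exp w' a')) ⟨y, hy⟩ = 0 := by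
    rw [fam_smul]
    show _ • (C.exp w a ⟨y, hy⟩ - C.exp w' a' ⟨y, hy⟩) = 0
    rw [h, sub_self, smul_zero]
  have h1 : (∏ k, C.g k) • (C.exp w a - C.exp w' a') = qF C.W.1 ((∏ k, C.g k) • (w - w') +
      ∑ j, ((a j - a' j) * ∏ k ∈ Finset.univ.erase j, C.g k) • d.app C.W.1 (C.g j)) := by
    unfold Chart.exp
    rw [map_add, map_sum, LinearMap.map_smul, map_sub, add_sub_add_comm, ← Finset.sum_sub_distrib, smul_add,
      Finset.smul_sum]
    refine congrArg _ (Finset.sum_congr rfl fun j _ => ?_)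
    rw [LinearMap.map_smul, ← smul_dlF d _ (C.reg j), smul_smul, ← sub_smul, smul_smul, mul_assoc,
      Finset.prod_erase_mul _ _ (Finset.mem_univ j), mul_comm]
  rw [h1] at h0
  refine Eq.trans ?_ h0
  show _ = LocalizedModule.mkLinearMap _ _ (germM Ω' C.W.1 y hy _)
  rw [show ∀ (p q : Γ(Ω', C.W.1)), germM Ω' C.W.1 y hy (p + q) = germM Ω' C.W.1 y hy p + germM Ω' C.W.1 y hy q from
    map_add (Ω'.presheaf.germ C.W.1 y hy).hom, map_add, germM_smul, LinearMap.map_smul]
  refine congrArg _ ?_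
  rw [show germM Ω' C.W.1 y hy (∑ j, ((a j - a' j) * ∏ k ∈ Finset.univ.erase j, C.g k) • d.app C.W.1 (C.g j)) =
    ∑ j, germM Ω' C.W.1 y hy (((a j - a' j) * ∏ k ∈ Finset.univ.erase j, C.g k) • d.app C.W.1 (C.g j)) from
    map_sum (Ω'.presheaf.germ C.W.1 y hy).hom _ _, map_sum]
  refine Finset.sum_congr rfl fun j _ => ?_
  rw [germM_smul, map_mul, LinearMap.map_smul]

/-- The value of the residue at a point. -/
def ResRel (i : Fin r) (y : X) (t : (obj hC).presheaf.stalk y) (c : (ClSub.quotMod (D i)).presheaf.stalk y) : Prop :=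
  ∃ (C : Chart d D) (hy : y ∈ C.W.1) (s : sec hC C.W.1) (w : Γ(Ω', C.W.1)) (a : Fin r → Γ(X, C.W.1)),
    s.1 = C.exp w a ∧ germM (obj hC) C.W.1 y hy s = t ∧
    c = germM (ClSub.quotMod (D i)) C.W.1 y hy ((ClSub.toSubscheme (D i)).app C.W.1 (OmegaSh.strSect X C.W.1 (a i)))

theorem exists_resRel (i : Fin r) (y : X) (t : (obj hC).presheaf.stalk y) : ∃ c, ResRel hC i y t c := by
  obtain ⟨U, hyU, s, rfl⟩ := exists_germM_eq (obj hC) y t
  let s' : sec hC U := s
  obtain ⟨C, h, w, a, hy, he⟩ := s'.2 ⟨y, hyU⟩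
  exact ⟨_, C, hy, (obj hC).presheaf.map (homOfLE h).op s, w, a, he, (obj hC).presheaf.germ_res_apply (homOfLE h) y hy s, rfl⟩

omit hC in
theorem germ_toSub_eq (i : Fin r) {U V : X.Opens} (h : V ≤ U) (a : Γ(X, U)) (y : X) (hy : y ∈ V) :
    germM (ClSub.quotMod (D i)) V y hy ((ClSub.toSubscheme (D i)).app V (OmegaSh.strSect X V (X.presheaf.map (homOfLE h).op a))) =
      germM (ClSub.quotMod (D i)) U y (h hy) ((ClSub.toSubscheme (D i)).app U (OmegaSh.strSect X U a)) := by
  rw [show OmegaSh.strSect X V (X.presheaf.map (homOfLE h).op a) = res (Coh.structureModule X) h (OmegaSh.strSect X U a) from rfl,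
    app_res, germM_res']

theorem resRel_unique (i : Fin r) (y : X) (t : (obj hC).presheaf.stalk y) {c c' : (ClSub.quotMod (D i)).presheaf.stalk y}
    (hc : ResRel hC i y t c) (hc' : ResRel hC i y t c') : c = c' := by
  obtain ⟨C, hy, s, w, a, hs, ht, rfl⟩ := hc
  obtain ⟨C', hy', s', w', a', hs', ht', rfl⟩ := hc'
  obtain ⟨W, hyW, i₁, i₂, heq⟩ := (obj hC).presheaf.germ_eq y hy hy' s s' (ht.trans ht'.symm)
  obtain ⟨E, hyE, hle⟩ := hC y W hyW
  have h₁ : E.W.1 ≤ C.W.1 := hle.trans (leOfHom i₁)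
  have h₂ : E.W.1 ≤ C'.W.1 := hle.trans (leOfHom i₂)
  obtain ⟨u, hu⟩ := exp_le C w a E h₁
  obtain ⟨u', hu'⟩ := exp_le C' w' a' E h₂
  have hexp : E.exp u (fun j => X.presheaf.map (homOfLE h₁).op (a j)) ⟨y, hyE⟩ =
      E.exp u' (fun j => X.presheaf.map (homOfLE h₂).op (a' j)) ⟨y, hyE⟩ := by
    rw [← hu, ← hu', ← hs, ← hs']
    exact congrFun (congrArg Subtype.val heq) ⟨y, hle hyE⟩
  obtain ⟨k, hk⟩ := coeff_eq E u u' _ _ y hyE hexp i
  rw [← germ_toSub_eq i h₁ (a i) y hyE, ← germ_toSub_eq i h₂ (a' i) y hyE, ← sub_eq_zero]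
  let b : Γ(X, E.W.1) := X.presheaf.map (homOfLE h₁).op (a i) - X.presheaf.map (homOfLE h₂).op (a' i)
  obtain ⟨V, hyV, k₀, rfl⟩ := X.presheaf.exists_germ_eq (x := y) k
  have hyEV : y ∈ E.W.1 ⊓ V := ⟨hyE, hyV⟩
  have hb : X.presheaf.germ (E.W.1 ⊓ V) y hyEV (X.presheaf.map (homOfLE (inf_le_left : E.W.1 ⊓ V ≤ E.W.1)).op b) =
      X.presheaf.germ (E.W.1 ⊓ V) y hyEV (X.presheaf.map (homOfLE (inf_le_right : E.W.1 ⊓ V ≤ V)).op k₀ *
        X.presheaf.map (homOfLE (inf_le_left : E.W.1 ⊓ V ≤ E.W.1)).op (E.g i)) := by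
    rw [map_mul, X.presheaf.germ_res_apply, X.presheaf.germ_res_apply, X.presheaf.germ_res_apply]
    exact hk
  obtain ⟨V', hyV', j₁, j₂, hb'⟩ := X.presheaf.germ_eq y hyEV hyEV _ _ hb
  obtain ⟨G, hyG, hGV⟩ := hC y V' hyV'
  have hGE : G.W.1 ≤ E.W.1 := (hGV.trans (leOfHom j₁)).trans inf_le_left
  have hmem : X.presheaf.map (homOfLE hGE).op b ∈ (D i).ideal G.W := by
    rw [← (D i).map_ideal (U := G.W) (V := E.W) hGE, E.span i, Ideal.map_span, Set.image_singleton,
      Ideal.mem_span_singleton']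
    refine ⟨X.presheaf.map (homOfLE ((hGV.trans (leOfHom j₁)).trans inf_le_right)).op k₀, ?_⟩
    have := congrArg (X.presheaf.map (homOfLE hGV).op) hb'
    simp only [map_mul, ← ConcreteCategory.comp_apply, ← Functor.map_comp] at this
    exact this.symm
  have hz : (ClSub.toSubscheme (D i)).app G.W.1 (OmegaSh.strSect X G.W.1 (X.presheaf.map (homOfLE hGE).op b)) = 0 :=
    (LogRes.toSubscheme_eq_zero_iff (D i) G.W _).mpr hmem
  have h3 := germ_toSub_eq (D := D) i hGE b y hyG
  rw [hz] at h3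
  refine Eq.trans ?_ (h3.symm.trans (map_zero _))
  show _ - _ = germM (ClSub.quotMod (D i)) E.W.1 y hyE _
  rw [show OmegaSh.strSect X E.W.1 b = _ from map_sub (OmegaSh.strSect X E.W.1) _ _, map_sub]
  exact (map_sub ((ClSub.quotMod (D i)).presheaf.germ E.W.1 y hyE).hom _ _).symm

/-- The residue. -/
theorem exists_res (i : Fin r) : ∃ ρ : obj hC ⟶ ClSub.quotMod (D i),
    ∀ y t, ResRel hC i y t (stalkLin ρ y t) := by
  choose φ₀ hφ₀ using exists_resRel hC i
  let φ : ∀ y, (obj hC).presheaf.stalk y →ₗ[X.presheaf.stalk y] (ClSub.quotMod (D i)).presheaf.stalk y := fun y =>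
    { toFun := φ₀ y
      map_add' := fun t t' => by
        obtain ⟨C, hy, s, w, a, hs, ht, hc⟩ := hφ₀ y t
        obtain ⟨C', hy', s', w', a', hs', ht', hc'⟩ := hφ₀ y t'
        obtain ⟨E, hyE, hle⟩ := hC y (C.W.1 ⊓ C'.W.1) ⟨hy, hy'⟩
        obtain ⟨u, hu⟩ := exp_le C w a E (hle.trans inf_le_left)
        obtain ⟨u', hu'⟩ := exp_le C' w' a' E (hle.trans inf_le_right)
        let σ : sec hC E.W.1 := (obj hC).presheaf.map (homOfLE (hle.trans inf_le_left)).op s
        let σ' : sec hC E.W.1 := (obj hC).presheaf.map (homOfLE (hle.trans inf_le_right)).op s'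
        refine resRel_unique hC i y _ (hφ₀ y _) ⟨E, hyE, σ + σ', u + u',
          (fun j => X.presheaf.map (homOfLE (hle.trans inf_le_left)).op (a j)) + (fun j => X.presheaf.map (homOfLE (hle.trans inf_le_right)).op (a' j)), ?_, ?_, ?_⟩
        · show σ.1 + σ'.1 = _
          rw [← exp_add, ← hu, ← hu', ← hs, ← hs']
          rfl
        · rw [← ht, ← ht']
          exact (map_add ((obj hC).presheaf.germ E.W.1 y hyE).hom σ σ').trans
            (congrArg₂ (· + ·) ((obj hC).presheaf.germ_res_apply _ y hyE s) ((obj hC).presheaf.germ_res_apply _ y hyE s'))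
        · rw [hc, hc', ← germ_toSub_eq i (hle.trans inf_le_left) (a i) y hyE,
            ← germ_toSub_eq i (hle.trans inf_le_right) (a' i) y hyE, Pi.add_apply, map_add, map_add]
          exact (map_add ((ClSub.quotMod (D i)).presheaf.germ E.W.1 y hyE).hom _ _).symm
      map_smul' := fun c t => by
        obtain ⟨C, hy, s, w, a, hs, ht, hc⟩ := hφ₀ y t
        obtain ⟨V, hyV, c₀, rfl⟩ := X.presheaf.exists_germ_eq (x := y) c
        obtain ⟨E, hyE, hle⟩ := hC y (C.W.1 ⊓ V) ⟨hy, hyV⟩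
        obtain ⟨u, hu⟩ := exp_le C w a E (hle.trans inf_le_left)
        let k : Γ(X, E.W.1) := X.presheaf.map (homOfLE (hle.trans inf_le_right)).op c₀
        let σ : sec hC E.W.1 := (obj hC).presheaf.map (homOfLE (hle.trans inf_le_left)).op s
        refine resRel_unique hC i y _ (hφ₀ y _) ⟨E, hyE, k • σ, k • u, fun j => k * X.presheaf.map (homOfLE (hle.trans inf_le_left)).op (a j), ?_, ?_, ?_⟩
        · show k • σ.1 = _
          rw [← exp_smul, ← hu, ← hs]
          rfl
        · refine (germM_smul (obj hC) E.W.1 y hyE k _).trans ?_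
          rw [← ht]
          exact congrArg₂ (· • ·) (X.presheaf.germ_res_apply _ y hyE c₀) ((obj hC).presheaf.germ_res_apply _ y hyE s)
        · rw [RingHom.id_apply, hc, ← germ_toSub_eq i (hle.trans inf_le_left) (a i) y hyE,
            show OmegaSh.strSect X E.W.1 (k * X.presheaf.map (homOfLE (hle.trans inf_le_left)).op (a i)) =
              k • OmegaSh.strSect X E.W.1 (X.presheaf.map (homOfLE (hle.trans inf_le_left)).op (a i)) from rfl,
            Scheme.Modules.Hom.app_smul, germM_smul, X.presheaf.germ_res_apply] }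
  have hloc : ∀ y t, Loc φ y t := by
    intro y t
    obtain ⟨C, hy, s, w, a, hs, ht, -⟩ := hφ₀ y t
    exact ⟨C.W.1, hy, s, _, ht, fun z hz => resRel_unique hC i z _ (hφ₀ z _) ⟨C, hz, s, w, a, hs, rfl, rfl⟩⟩
  obtain ⟨ρ, hρ⟩ := exists_hom hloc
  exact ⟨ρ, fun y t => by rw [hρ y t]; exact hφ₀ y t⟩

include hC in
/-- Equations on any principal affine open are regular. -/
theorem reg_of_principal {U : X.affineOpens} {g : Fin r → Γ(X, U.1)} (hg : ∀ i, (D i).ideal U = Ideal.span {g i})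
    (i : Fin r) (y : X) (hy : y ∈ U.1) : X.presheaf.germ U.1 y hy (g i) ∈ (X.presheaf.stalk y)⁰ := by
  obtain ⟨C, hyC, hle⟩ := hC y U.1 hy
  have hspan : Ideal.span {X.presheaf.map (homOfLE hle).op (g i)} = Ideal.span {C.g i} := by
    rw [← C.span i, ← (D i).map_ideal (U := C.W) (V := U) hle, hg i, Ideal.map_span, Set.image_singleton]
    rfl
  obtain ⟨v, hv⟩ := Ideal.mem_span_singleton'.mp (hspan.ge (Ideal.mem_span_singleton_self (C.g i)))
  have h := C.reg i y hyC
  rw [← hv, map_mul, X.presheaf.germ_res_apply] at h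
  exact (mul_mem_nonZeroDivisors.mp h).2

/-- The chart description. -/
theorem rule [Ω'.IsQuasicoherent] (ρ : ∀ i, obj hC ⟶ ClSub.quotMod (D i))
    (hρ : ∀ i y t, ResRel hC i y t (stalkLin (ρ i) y t)) (U : X.affineOpens) (g : Fin r → Γ(X, U.1))
    (hg : ∀ i, (D i).ideal U = Ideal.span {g i}) :
    (∀ x : (obj hC).val.obj (op U.1), (∏ i, g i) • x = 0 → x = 0) ∧
    ∃ dl : Fin r → (obj hC).val.obj (op U.1),
      (∀ i, g i • dl i = ((inclΩ hC).val.app (op U.1)).hom (d.app U.1 (g i))) ∧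
      Submodule.span Γ(X, U.1) (Set.range (((inclΩ hC).val.app (op U.1)).hom) ∪ Set.range dl) = ⊤ ∧
      (∀ i, ((ρ i).val.app (op U.1)).hom (dl i) = LogNCD.oneOn (D i) U.1) ∧
      (∀ i j, i ≠ j → ((ρ j).val.app (op U.1)).hom (dl i) = 0) := by
  classical
  have hreg := fun i => reg_of_principal hC hg i
  have hregG : ∀ y (hy : y ∈ U.1), X.presheaf.germ U.1 y hy (∏ i, g i) ∈ (X.presheaf.stalk y)⁰ := fun y hy => by
    rw [map_prod]; exact Submonoid.prod_mem _ fun i _ => hreg i y hy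
  have htf : ∀ x : sec hC U.1, (∏ i, g i) • x = 0 → x = 0 := fun x hx => Subtype.ext (funext fun y =>
    eq_of_smul_eq (hregG y.1 y.2) ((congrFun (congrArg Subtype.val hx) y).trans (smul_zero _).symm))
  -- the chart given by `g` near each point
  have hloc : ∀ (x : U.1), ∃ (C : Chart d D) (h : C.W.1 ≤ U.1), x.1 ∈ C.W.1 ∧
      ∀ i, ∃ w, resF h (dlF d U.1 (g i)) = C.exp w (Pi.single i 1) := by
    intro x
    obtain ⟨C, hx, hle⟩ := hC x.1 U.1 x.2
    refine ⟨C, hle, hx, fun i => ?_⟩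
    obtain ⟨w, hw⟩ := exp_change C (fun i => X.presheaf.map (homOfLE hle).op (g i))
      (fun i => by rw [← (D i).map_ideal (U := C.W) (V := U) hle, hg i, Ideal.map_span, Set.image_singleton]; rfl)
      (fun i y hy => by rw [X.presheaf.germ_res_apply]; exact hreg i y (hle hy)) 0 (Pi.single i 1)
    refine ⟨w, ?_⟩
    rw [resF_dlF hle _ (hreg i), ← hw, map_zero, zero_add, Finset.sum_eq_single i
      (fun j _ hj => by rw [Pi.single_eq_of_ne hj, zero_smul]) (fun h => absurd (Finset.mem_univ i) h),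
      Pi.single_eq_same, one_smul]
  let dl : Fin r → sec hC U.1 := fun i => ⟨dlF d U.1 (g i), fun x => by
    obtain ⟨C, h, hx, hw⟩ := hloc x
    obtain ⟨w, hw⟩ := hw i
    exact ⟨C, h, w, _, hx, hw⟩⟩
  have hres : ∀ i j, ∀ y (hy : y ∈ U.1), germM (ClSub.quotMod (D j)) U.1 y hy ((ρ j).app U.1 (dl i)) =
      germM (ClSub.quotMod (D j)) U.1 y hy
        ((ClSub.toSubscheme (D j)).app U.1 (OmegaSh.strSect X U.1 (if i = j then 1 else 0))) := by
    intro i j y hy
    obtain ⟨C, h, hyC, hw⟩ := hloc ⟨y, hy⟩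
    obtain ⟨w, hw⟩ := hw i
    let σ : sec hC C.W.1 := (obj hC).presheaf.map (homOfLE h).op (dl i)
    rw [← stalkLin_germ (M := obj hC) (ρ j) U.1 y hy (dl i), ← germ_toSub_eq j h (if i = j then 1 else 0) y hyC]
    refine resRel_unique hC j y _ (hρ j y _) ⟨C, hyC, σ, w, Pi.single i 1, hw,
      (obj hC).presheaf.germ_res_apply _ y hyC (dl i), ?_⟩
    congr 3
    by_cases hij : i = j
    · subst hij; rw [if_pos rfl, Pi.single_eq_same, map_one]
    · rw [if_neg hij, Pi.single_eq_of_ne (Ne.symm hij), map_zero]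
  refine ⟨htf, dl, fun i => Subtype.ext (smul_dlF d (g i) (hreg i)), ?_, fun i => ?_, fun i j hij => ?_⟩
  rotate_left
  · refine sec_ext (N := ClSub.quotMod (D i)) fun y hy => (hres i i y hy).trans ?_
    rw [if_pos rfl]
    rfl
  · refine sec_ext (N := ClSub.quotMod (D j)) fun y hy => (hres i j y hy).trans ?_
    rw [if_neg hij, map_zero, map_zero]
    rfl
  -- generation
  rw [eq_top_iff]
  intro s _
  let s₀ : sec hC U.1 := s
  let T : Submodule Γ(X, U.1) (sec hC U.1) :=
    Submodule.span Γ(X, U.1) (Set.range (((inclΩ hC).val.app (op U.1)).hom) ∪ Set.range dl)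
  have hι : ∀ w : Γ(Ω', U.1), (⟨qF U.1 w, isSec_qF hC U.1 w⟩ : sec hC U.1) ∈ T := fun w =>
    Submodule.subset_span (Or.inl ⟨w, rfl⟩)
  have hJ : T.comap (LinearMap.toSpanSingleton Γ(X, U.1) _ s₀) = ⊤ :=
    ExtPowSt.Exists.eq_top_of_forall _ fun x hx => by
      obtain ⟨C₁, h₁, hx₁, hw₁⟩ := hloc ⟨x, hx⟩
      obtain ⟨C, h, w, a, hle, hxC, he⟩ := IsSec.exists_le hC s₀.2 ⟨x, hx⟩ C₁.W.1 hx₁
      choose w₁ hw₁ using hw₁
      obtain ⟨b, hbC, hxb⟩ := U.2.exists_basicOpen_le ⟨x, hxC⟩ hx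
      haveI := U.2.isLocalization_basicOpen b
      -- on `D(b)` the section is a combination with the equations `g`
      choose w₂ hw₂ using fun i => exp_le C₁ (w₁ i) (Pi.single i 1) C hle
      have hcomb : ∃ w' : Γ(Ω', C.W.1), resF h s₀.1 = qF C.W.1 w' + ∑ i, a i • resF h (dlF d U.1 (g i)) := by
        refine ⟨w - ∑ i, a i • w₂ i, ?_⟩
        rw [he]
        have e : ∀ i, resF h (dlF d U.1 (g i)) = qF C.W.1 (w₂ i) + dlF d C.W.1 (C.g i) := fun i => by
          have : resF h (dlF d U.1 (g i)) = resF hle (resF h₁ (dlF d U.1 (g i))) := rfl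
          rw [this, hw₁ i, hw₂ i]
          unfold Chart.exp
          rw [Finset.sum_eq_single i (fun j _ hj => by simp [Pi.single_eq_of_ne hj])
            (fun h => absurd (Finset.mem_univ i) h)]
          simp only [Pi.single_eq_same, map_one, one_smul]
        unfold Chart.exp
        simp only [e, smul_add, Finset.sum_add_distrib, map_sub, map_sum, LinearMap.map_smul]
        abel
      obtain ⟨w', hw'⟩ := hcomb
      obtain ⟨n, t, ht⟩ := (isLocalizingAt Ω' U.2 b).surj (res Ω' hbC w')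
      have ha : ∀ i, ∃ m c, X.presheaf.map (homOfLE (X.basicOpen_le b)).op c =
          X.presheaf.map (homOfLE (X.basicOpen_le b)).op (b ^ m) * X.presheaf.map (homOfLE hbC).op (a i) := fun i => by
        obtain ⟨⟨c, ⟨_, m, rfl⟩⟩, hc⟩ := IsLocalization.surj (Submonoid.powers b) (X.presheaf.map (homOfLE hbC).op (a i))
        exact ⟨m, c, hc.symm.trans (mul_comm _ _)⟩
      choose m c hc using ha
      let N := n + Finset.univ.sup m
      let z : sec hC U.1 := b ^ N • s₀ - ((⟨qF U.1 (b ^ (N - n) • t), isSec_qF hC U.1 _⟩ : sec hC U.1) +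
        ∑ i, (b ^ (N - m i) * c i) • dl i)
      have hzT : b ^ N • s₀ - z ∈ T := by
        simp only [z, sub_sub_cancel]
        exact Submodule.add_mem _ (hι _) (Submodule.sum_mem _ fun i _ =>
          Submodule.smul_mem _ _ (Submodule.subset_span (Or.inr ⟨i, rfl⟩)))
      have hzero : resF (X.basicOpen_le b) z.1 = 0 := by
        let ρb := (X.presheaf.map (homOfLE (X.basicOpen_le b)).op).hom
        have e1 : resF (X.basicOpen_le b) s₀.1 = resF hbC (resF h s₀.1) := rfl
        have e2 : z.1 = b ^ N • s₀.1 - (qF U.1 (b ^ (N - n) • t) + ∑ i, (b ^ (N - m i) * c i) • dlF d U.1 (g i)) := by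
          simp only [z, Submodule.coe_sub, Submodule.coe_add, Submodule.coe_sum, Submodule.coe_smul]
          rfl
        funext y
        rw [e2]
        have hy : y.1 ∈ U.1 := X.basicOpen_le b y.2
        have h1 := congrFun hw' ⟨y.1, hbC y.2⟩
        simp only [resF, Pi.sub_apply, Pi.add_apply, Finset.sum_apply, Pi.zero_apply, fam_smul] at h1 ⊢
        rw [h1, smul_add, Finset.smul_sum, sub_eq_zero]
        refine congrArg₂ (· + ·) ?_ (Finset.sum_congr rfl fun i _ => ?_)
        · show _ • LocalizedModule.mkLinearMap _ _ _ = LocalizedModule.mkLinearMap _ _ _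
          rw [← LinearMap.map_smul, germM_smul, ← germM_res' Ω' (X.basicOpen_le b) y.1 y.2 t, ht, germM_smul,
            germM_res', ← X.presheaf.germ_res_apply (homOfLE (X.basicOpen_le b)) y.1 y.2 (b ^ (N - n)), smul_smul,
            ← map_pow, ← map_mul, ← map_mul, ← pow_add, Nat.sub_add_cancel (Nat.le_add_right _ _), X.presheaf.germ_res_apply]
        · rw [smul_smul]
          refine congrArg (· • _) ?_
          have := congrArg (X.presheaf.germ (X.basicOpen b) y.1 y.2) (hc i)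
          rw [map_mul, X.presheaf.germ_res_apply, X.presheaf.germ_res_apply, X.presheaf.germ_res_apply] at this
          rw [map_mul, this, ← mul_assoc, ← map_mul, ← pow_add,
            Nat.sub_add_cancel ((Finset.le_sup (Finset.mem_univ i)).trans (Nat.le_add_left _ _))]
      -- a section vanishing on `D(b)` is killed by a power
      obtain ⟨k, hk⟩ : ∃ k, b ^ k • z = 0 := by
        haveI := mono_inclΩ hC
        obtain ⟨ω, hω⟩ : ∃ ω : Γ(Ω', U.1), qF U.1 ω = (∏ i, g i) • z.1 := by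
          let K := ShortComplex.mk (inclΩ hC) (cokernel.π (inclΩ hC)) (cokernel.condition _)
          obtain ⟨ω, hω⟩ := exists_app_eq_of_app_eq_zero K (K.exact_of_g_is_cokernel (cokernelIsCokernel _)) U.1
            ((∏ i, g i) • z : sec hC U.1) (sec_ext (N := cokernel (inclΩ hC)) fun y hy => by
              obtain ⟨C', h', w'', a'', hle'', hy', he'⟩ := IsSec.exists_le hC z.2 ⟨y, hy⟩ _ (hloc ⟨y, hy⟩).choose_spec.choose_spec.1
              let G' := X.presheaf.map (homOfLE h').op (∏ i, g i)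
              have hG : ∃ ω' : Γ(Ω', C'.W.1), qF C'.W.1 ω' = G' • C'.exp w'' a'' := by
                have hd' : ∀ i, ∃ ω', qF C'.W.1 ω' = G' • dlF d C'.W.1 (C'.g i) := fun i => by
                  have hspan : Ideal.span {X.presheaf.map (homOfLE h').op (g i)} = Ideal.span {C'.g i} := by
                    rw [← C'.span i, ← (D i).map_ideal (U := C'.W) (V := U) h', hg i, Ideal.map_span, Set.image_singleton]
                    rfl
                  obtain ⟨v, hv⟩ := Ideal.mem_span_singleton'.mp (hspan.le (Ideal.mem_span_singleton_self _))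
                  refine ⟨(X.presheaf.map (homOfLE h').op (∏ k ∈ Finset.univ.erase i, g k) * v) • d.app C'.W.1 (C'.g i), ?_⟩
                  rw [LinearMap.map_smul, ← smul_dlF d _ (C'.reg i), smul_smul, mul_assoc, hv, ← map_mul,
                    Finset.prod_erase_mul _ _ (Finset.mem_univ i)]
                choose ω' hω' using hd'
                refine ⟨G' • w'' + ∑ i, a'' i • ω' i, ?_⟩
                unfold Chart.exp
                simp only [map_add, map_sum, LinearMap.map_smul, smul_add, Finset.smul_sum, hω']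
                exact congrArg _ (Finset.sum_congr rfl fun i _ => smul_comm _ _ _)
              obtain ⟨ω', hω'⟩ := hG
              let ζ : sec hC U.1 := (∏ i, g i) • z
              rw [← stalkLin_germ (M := obj hC) (cokernel.π (inclΩ hC)) U.1 y hy ζ,
                ← germM_res' (obj hC) h' y hy' ζ]
              have e3 : res (obj hC) h' ζ = (inclΩ hC).app C'.W.1 ω' := by
                refine Subtype.ext ?_
                show resF h' ((∏ i, g i) • z.1) = qF C'.W.1 ω'
                rw [resF_smul, he', hω']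
              rw [e3, stalkLin_germ, ← ConcreteCategory.comp_apply, ← Scheme.Modules.Hom.comp_app, cokernel.condition]
              exact (congrArg _ (show (0 : Ω' ⟶ cokernel (inclΩ hC)).app C'.W.1 ω' = 0 from rfl)).trans
                ((map_zero _).trans (map_zero _).symm))
          exact ⟨ω, congrArg Subtype.val hω⟩
        obtain ⟨k, hk⟩ := (isLocalizingAt Ω' U.2 b).eq_zero ω (sec_ext (N := Ω') fun y hy => by
          obtain ⟨C', hyC', -⟩ := hC y ⊤ trivial
          refine C'.inj y hyC' ?_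
          have := congrFun hω ⟨y, X.basicOpen_le b hy⟩
          rw [fam_smul, show z.1 ⟨y, X.basicOpen_le b hy⟩ = 0 from congrFun hzero ⟨y, hy⟩, smul_zero] at this
          rw [germM_res']
          refine this.trans ?_
          exact (map_zero _).symm.trans (congrArg _ (map_zero (Ω'.presheaf.germ (X.basicOpen b) y hy).hom).symm))
        refine ⟨k, htf _ (Subtype.ext ?_)⟩
        show (∏ i, g i) • (b ^ k • z.1) = 0
        rw [smul_comm, ← hω, ← LinearMap.map_smul, hk, map_zero]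
      refine ⟨b ^ (k + N), ?_, pow_mem (ExtPowSt.Exists.mem_primeCompl b hx hxb) _⟩
      show b ^ (k + N) • s₀ ∈ T
      rw [pow_add, mul_smul, show b ^ k • b ^ N • s₀ = b ^ k • (b ^ N • s₀ - z) from by rw [smul_sub, hk, sub_zero]]
      exact Submodule.smul_mem _ _ hzT
  have h1 : (1 : Γ(X, U.1)) ∈ T.comap (LinearMap.toSpanSingleton Γ(X, U.1) _ s₀) := hJ ▸ Submodule.mem_top
  have h2 : (1 : Γ(X, U.1)) • s₀ ∈ T := h1
  rw [one_smul] at h2
  exact h2

end Groth.Agent.Unram24.LogExists
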